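import Mathlib

set_option autoImplicit false
universe u v
open MvPolynomial

namespace Groth.Agent.H64

section general

variable {R : Type u} [CommRing R] [IsNoetherianRing R]

/-- a finitely generated module over a Noetherian ring whose support consists of maximal ideals has
finite length -/
theorem isFiniteLength_of_support_subset_maximal (N : Type v) [AddCommGroup N] [Module R N]
    [hN : Module.Finite R N] (h : ∀ p ∈ Module.support R N, p.asIdeal.IsMaximal) :
    IsFiniteLength R N := by
  refine IsNoetherianRing.induction_on_isQuotientEquivQuotientPrime R hN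
    (motive := fun N _ _ _ => (∀ p ∈ Module.support R N, p.asIdeal.IsMaximal) → IsFiniteLength R N)
    ?_ ?_ ?_ h
  · intro N _ _ _ _ _
    exact IsFiniteLength.of_subsingleton
  · intro N _ _ _ p e h
    have hp : p ∈ Module.support R N := by
      rw [e.support_eq, Module.mem_support_iff_of_finite, Ideal.annihilator_quotient]
    have hmax : p.asIdeal.IsMaximal := h p hp
    have hs : IsSimpleModule R (R ⧸ p.asIdeal) :=
      isSimpleModule_iff_isCoatom.mpr (Ideal.isMaximal_def.mp hmax)
    have : IsFiniteLength R (R ⧸ p.asIdeal) := by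
      rw [isFiniteLength_iff_isNoetherian_isArtinian]
      exact ⟨inferInstance, inferInstance⟩
    exact e.symm.isFiniteLength this
  · intro N₁ _ _ _ N₂ _ _ _ N₃ _ _ _ f g hf hg hfg h1 h3 h
    have hsup := Module.support_of_exact hfg hf hg
    have a1 := h1 (fun p hp => h p (by rw [hsup]; exact Or.inl hp))
    have a3 := h3 (fun p hp => h p (by rw [hsup]; exact Or.inr hp))
    rw [isFiniteLength_iff_isNoetherian_isArtinian] at a1 a3 ⊢
    obtain ⟨_, _⟩ := a1
    obtain ⟨_, _⟩ := a3
    refine ⟨inferInstance, ?_⟩
    exact isArtinian_of_range_eq_ker f g hfg.linearMap_ker_eq.symm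

/-- a finitely generated module over a Noetherian ring all of whose associated primes are maximal
has finite length -/
theorem isFiniteLength_of_associatedPrimes_maximal (N : Type v) [AddCommGroup N] [Module R N]
    [Module.Finite R N] (h : ∀ p ∈ associatedPrimes R N, p.IsMaximal) : IsFiniteLength R N := by
  apply isFiniteLength_of_support_subset_maximal
  intro p hp
  rw [Module.support_eq_zeroLocus] at hp
  have hle : Module.annihilator R N ≤ p.asIdeal := hp
  obtain ⟨q, hq, hqp⟩ := Ideal.exists_minimalPrimes_le hle
  have hqmax : q.IsMaximal := h q (Module.associatedPrimes.minimalPrimes_annihilator_subset_associatedPrimes R N hq)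
  have : q = p.asIdeal := hqmax.eq_of_le p.2.ne_top hqp
  rw [← this]
  exact hqmax

end general

section main

variable (k : Type u) [Field k] (r d : ℕ)

/-- a prime ideal of the polynomial ring containing all forms of degree `d` is maximal -/
theorem isMaximal_of_forall_isHomogeneous_mem (P : Ideal (MvPolynomial (Fin (r + 1)) k))
    [hP : P.IsPrime] (h : ∀ f : MvPolynomial (Fin (r + 1)) k, f.IsHomogeneous d → f ∈ P) :
    P.IsMaximal := by
  have hX : ∀ j, (X j : MvPolynomial (Fin (r + 1)) k) ∈ P := fun j =>
    hP.mem_of_pow_mem d (h _ (isHomogeneous_X_pow j d))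
  let q : MvPolynomial (Fin (r + 1)) k →ₐ[k] (MvPolynomial (Fin (r + 1)) k ⧸ P) :=
    Ideal.Quotient.mkₐ k P
  have hq0 : (q ∘ X) = (fun _ => 0 : Fin (r + 1) → (MvPolynomial (Fin (r + 1)) k ⧸ P)) := by
    funext j
    exact Ideal.Quotient.eq_zero_iff_mem.mpr (hX j)
  have hq : ∀ p, q p = algebraMap k _ (constantCoeff p) := by
    intro p
    rw [aeval_unique q, hq0, aeval_zero']
  have hker : RingHom.ker (constantCoeff : MvPolynomial (Fin (r + 1)) k →+* k) ≤ P := by
    intro p hp
    have : q p = 0 := by rw [hq p, (RingHom.mem_ker).mp hp, map_zero]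
    exact Ideal.Quotient.eq_zero_iff_mem.mp this
  have hmax : (RingHom.ker (constantCoeff : MvPolynomial (Fin (r + 1)) k →+* k)).IsMaximal :=
    RingHom.ker_isMaximal_of_surjective _ (fun a => ⟨C a, constantCoeff_C _ a⟩)
  rw [← hmax.eq_of_le hP.ne_top hker]
  exact hmax

variable [Infinite k]

theorem exists_isHomogeneous_torsionBy_isFiniteLength
    (M : Type v) [AddCommGroup M] [Module (MvPolynomial (Fin (r + 1)) k) M]
    [Module.Finite (MvPolynomial (Fin (r + 1)) k) M] :
    ∃ f : MvPolynomial (Fin (r + 1)) k, f.IsHomogeneous d ∧ f ≠ 0 ∧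
      IsFiniteLength (MvPolynomial (Fin (r + 1)) k)
        ↥(Submodule.torsionBy (MvPolynomial (Fin (r + 1)) k) M f) := by
  classical
  have hfin : (associatedPrimes (MvPolynomial (Fin (r + 1)) k) M).Finite :=
    associatedPrimes.finite _ M
  let T : Set (Ideal (MvPolynomial (Fin (r + 1)) k)) :=
    {P | P ∈ associatedPrimes (MvPolynomial (Fin (r + 1)) k) M ∧ ¬ P.IsMaximal}
  have hT : T.Finite := hfin.subset (fun P hP => hP.1)
  have : Finite T := hT.to_subtype
  let V := homogeneousSubmodule (Fin (r + 1)) k d
  let W : Option T → Submodule k V := fun o =>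
    match o with
    | none => ⊥
    | some P => Submodule.comap V.subtype ((P : Ideal (MvPolynomial (Fin (r + 1)) k)).restrictScalars k)
  have hW : ∀ o, W o ≠ ⊤ := by
    intro o
    cases o with
    | none =>
      intro h
      have hx : (⟨X 0 ^ d, isHomogeneous_X_pow 0 d⟩ : V) ∈ (⊥ : Submodule k V) := by
        rw [show (⊥ : Submodule k V) = W none from rfl, h]; trivial
      have h0 := (Submodule.mem_bot k).mp hx
      exact (pow_ne_zero d (X_ne_zero (0 : Fin (r + 1)))) (congrArg Subtype.val h0)
    | some P =>
      intro h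
      have hPprime : (P : Ideal (MvPolynomial (Fin (r + 1)) k)).IsPrime := P.2.1.isPrime
      apply P.2.2
      apply isMaximal_of_forall_isHomogeneous_mem k r d P
      intro f hf
      have hmem : (⟨f, hf⟩ : V) ∈ W (some P) := by rw [h]; trivial
      exact hmem
  obtain ⟨x, hx⟩ := Submodule.exists_forall_notMem_of_forall_ne_top W hW
  refine ⟨x.1, x.2, ?_, ?_⟩
  · intro h0
    apply hx none
    show x ∈ (⊥ : Submodule k V)
    rw [Submodule.mem_bot]
    exact Subtype.ext h0
  · apply isFiniteLength_of_associatedPrimes_maximal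
    intro P hP
    by_contra hmax
    have hPM : P ∈ associatedPrimes (MvPolynomial (Fin (r + 1)) k) M :=
      associatedPrimes.subset_of_injective (Submodule.injective_subtype _) hP
    have hxP : x.1 ∉ P := fun hmem => hx (some ⟨P, hPM, hmax⟩) hmem
    obtain ⟨-, y, hy⟩ := isAssociatedPrime_iff.mp hP
    apply hxP
    rw [hy, Submodule.mem_colon_singleton, Submodule.mem_bot]
    apply Subtype.ext
    have := y.2
    rw [Submodule.mem_torsionBy_iff] at this
    exact this

end main

end Groth.Agent.H64
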