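import Groth.Agent.H64.Stk.Rep1
import Groth.Prelude.Def_AlgSt3

set_option autoImplicit false
universe v₂ u₂ v₃ u₃ v₄ u₄ v₅ u₅ u
open CategoryTheory CategoryTheory.Limits AlgebraicGeometry Opposite

namespace Groth.Agent.H64

open AlgSt Groth.Agent.H32

variable {S : Scheme.{u}}

theorem secHom_aux {D : Type*} [Category D] {T L L' U : D} (hL : L = T) (hL' : L' = T)
    (εl : L ⟶ L') (h : L ⟶ U) (h' : L' ⟶ U) (h1 : εl ≫ h' = h)
    (h2 : εl = eqToHom hL ≫ 𝟙 T ≫ eqToHom hL'.symm) :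
    eqToHom hL.symm ≫ h = eqToHom hL'.symm ≫ h' := by
  subst hL
  subst hL'
  simp only [eqToHom_refl, Category.comp_id] at h2
  subst h2
  simpa using h1.symm

/-- 2-isomorphic (even: 2-related) functors to a slice have the same associated section map -/
theorem secHom_eq_of_hom {F : AlgSp.Sp S} {U : Over S} {Φ Φ' : ofSp F ⥤ᵇ FibCat.overCat U}
    (e : Φ ⟶ Φ') (a : (ofSp F).obj) : secHom Φ a = secHom Φ' a := by
  let ε : Φ.obj a ⟶ Φ'.obj a := bapp e a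
  have hε : (FibCat.overCat U).p.IsHomLift (𝟙 ((ofSp F).p.obj a)) ε := bapp_isHomLift e a
  have h1 : ε.left ≫ (Φ'.obj a).hom = (Φ.obj a).hom := Over.w ε
  have h2 : ε.left = eqToHom (Φ.w_obj a) ≫ 𝟙 _ ≫ eqToHom (Φ'.w_obj a).symm :=
    IsHomLift.fac' (FibCat.overCat U).p (𝟙 _) ε
  exact secHom_aux (Φ.w_obj a) (Φ'.w_obj a) ε.left (Φ.obj a).hom (Φ'.obj a).hom h1 h2

theorem spMapOfOver_eq_of_hom {F : AlgSp.Sp S} {U : Over S} {Φ Φ' : ofSp F ⥤ᵇ FibCat.overCat U}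
    (e : Φ ⟶ Φ') : spMapOfOver Φ = spMapOfOver Φ' := by
  apply ObjectProperty.hom_ext
  ext T x
  obtain ⟨T⟩ := T
  exact congrArg ULift.up (secHom_eq_of_hom e ⟨T, x⟩)

section square

variable {𝒳 : BasedCategory.{v₂, u₂} (Over S)} {𝒴 : BasedCategory.{v₃, u₃} (Over S)}
  {𝒳' : BasedCategory.{v₄, u₄} (Over S)} {𝒴' : BasedCategory.{v₅, u₅} (Over S)}
  (P : MorphismProperty (AlgSp.Sp S))
  (f : 𝒳 ⥤ᵇ 𝒴) (f' : 𝒳' ⥤ᵇ 𝒴') (a : 𝒳' ⥤ᵇ 𝒳) (b : 𝒴' ⥤ᵇ 𝒴)
  (ha : FibCat.IsEquivOver a) (hb : FibCat.IsEquivOver b)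
  (e : BasedFunctor.comp f' b ≅ BasedFunctor.comp a f)

include ha hb e

theorem repByAlgSpWith_of_square (hf : RepByAlgSpWith P f) : RepByAlgSpWith P f' := by
  intro U y'
  have := full_of_isEquivOver hb
  have := faithful_of_isEquivOver hb
  obtain ⟨F, e₀, he₀, hP⟩ := hf U (BasedFunctor.comp y' b)
  let Ψ : FibCat.fp y' f' ⥤ᵇ FibCat.fp (BasedFunctor.comp y' b) f :=
    fpMap (BasedFunctor.comp y' b) f y' f' (BasedFunctor.id _) a b (Iso.refl _) e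
  have hΨ : FibCat.IsEquivOver Ψ :=
    isEquivOver_fpMap _ _ _ _ _ _ _ _ _ (isEquivOver_id _) ha
  obtain ⟨d⟩ := IsEquivOver.nonempty_data hΨ
  refine ⟨F, BasedFunctor.comp e₀ d.inv, isEquivOver_comp he₀ (isEquivOver_inv d), ?_⟩
  let τ : BasedFunctor.comp (BasedFunctor.comp e₀ d.inv) (FibCat.fpFst y' f') ⟶
      BasedFunctor.comp e₀ (FibCat.fpFst (BasedFunctor.comp y' b) f) :=
    mkB (fun s => (FibCat.fpFst (BasedFunctor.comp y' b) f).map (bapp d.counit.hom (e₀.obj s)))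
      (fun {s s'} m =>
        ((FibCat.fpFst (BasedFunctor.comp y' b) f).toFunctor.map_comp _ _).symm.trans
          ((congrArg (FibCat.fpFst (BasedFunctor.comp y' b) f).toFunctor.map
            (bapp_naturality d.counit.hom (e₀.map m))).trans
            ((FibCat.fpFst (BasedFunctor.comp y' b) f).toFunctor.map_comp _ _)))
      (fun s => (BasedFunctor.isHomLift_iff (FibCat.fpFst (BasedFunctor.comp y' b) f) _ _).mpr
        (bapp_isHomLift' d.counit.hom (e₀.obj s) (e₀.w_obj s)))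
  rw [spMapOfOver_eq_of_hom τ]
  exact hP

theorem repByAlgSpWith_of_square' (hf' : RepByAlgSpWith P f') : RepByAlgSpWith P f := by
  intro U y
  have := full_of_isEquivOver hb
  have := faithful_of_isEquivOver hb
  obtain ⟨d⟩ := IsEquivOver.nonempty_data hb
  obtain ⟨F, e₀, he₀, hP⟩ := hf' U (BasedFunctor.comp y d.inv)
  let Ψ : FibCat.fp (BasedFunctor.comp y d.inv) f' ⥤ᵇ FibCat.fp y f :=
    fpMap y f (BasedFunctor.comp y d.inv) f' (BasedFunctor.id _) a b (compInvIso d y) e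
  have hΨ : FibCat.IsEquivOver Ψ :=
    isEquivOver_fpMap _ _ _ _ _ _ _ _ _ (isEquivOver_id _) ha
  refine ⟨F, BasedFunctor.comp e₀ Ψ, isEquivOver_comp he₀ hΨ, ?_⟩
  exact hP

end square

end Groth.Agent.H64
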