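import Groth.Agent.H64.DiagBC
import Groth.Agent.H64.SpMap

set_option autoImplicit false
universe v₂ u₂ v₃ u₃ v₄ u₄ u
open CategoryTheory CategoryTheory.Limits AlgebraicGeometry Opposite

namespace Groth.Agent.H64

open AlgSt Groth.Agent.H32

variable {S : Scheme.{u}} {𝒳 : BasedCategory.{v₂, u₂} (Over S)} {𝒴 : BasedCategory.{v₃, u₃} (Over S)}
  {𝒵 : BasedCategory.{v₄, u₄} (Over S)} (P : MorphismProperty (AlgSp.Sp S))

/-- base change of a morphism representable by algebraic spaces with property `P` (any `P`) -/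
theorem repByAlgSpWith_fpFst (f : 𝒳 ⥤ᵇ 𝒴) (g : 𝒵 ⥤ᵇ 𝒴) (hf : RepByAlgSpWith P f) :
    RepByAlgSpWith P (FibCat.fpFst g f) := by
  intro U z
  obtain ⟨F, e₀, he₀, hP⟩ := hf U (BasedFunctor.comp z g)
  refine ⟨F, BasedFunctor.comp e₀ (fpPaste f g z),
    isEquivOver_comp he₀ (isEquivOver_fpPaste f g z), ?_⟩
  exact hP

/-- the diagonal of a base change has every property `P` the diagonal has -/
theorem repByAlgSpWith_diag_fpFst (h𝒳 : FibCat.IsFibGrpd 𝒳.p) (h𝒴 : FibCat.IsFibGrpd 𝒴.p)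
    (h𝒵 : FibCat.IsFibGrpd 𝒵.p) (f : 𝒳 ⥤ᵇ 𝒴) (g : 𝒵 ⥤ᵇ 𝒴)
    (h : RepByAlgSpWith P (FibCat.diag f)) : RepByAlgSpWith P (FibCat.diag (FibCat.fpFst g f)) := by
  have h1 : RepByAlgSpWith P (FibCat.fpFst (diagBCq f g) (FibCat.diag f)) :=
    repByAlgSpWith_fpFst P (FibCat.diag f) (diagBCq f g) h
  exact repByAlgSpWith_of_square P (FibCat.fpFst (diagBCq f g) (FibCat.diag f))
    (FibCat.diag (FibCat.fpFst g f)) (diagBCΛ f g) (BasedFunctor.id _)
    (isEquivOver_diagBCΛ f g h𝒳 h𝒴 h𝒵) (isEquivOver_id _) (Iso.refl _) h1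

end Groth.Agent.H64
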