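import Groth.Agent.H64.Stk.Rep1
import Groth.Agent.H26.FpSelf

set_option autoImplicit false
open CategoryTheory CategoryTheory.Limits
universe v₇ u₇ v₆ u₆ v₅ u₅ v₄ u₄ v₃ u₃ v₂ u₂ v u

namespace Groth.Agent.H64

open Groth.Agent.H32 Groth.Agent.H26

variable {C : Type u} [Category.{v} C]

section prod

variable {𝒳₁ : BasedCategory.{v₂, u₂} C} {𝒳₂ : BasedCategory.{v₃, u₃} C}
  {𝒴₁ : BasedCategory.{v₄, u₄} C} {𝒴₂ : BasedCategory.{v₅, u₅} C}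
  {𝒰 : BasedCategory.{v₆, u₆} C}
  (f₁ : 𝒳₁ ⥤ᵇ 𝒴₁) (f₂ : 𝒳₂ ⥤ᵇ 𝒴₂)
  (e : BasedFunctor.comp (BasedFunctor.comp (FibCat.fpFst (FibCat.toSelf 𝒳₁) (FibCat.toSelf 𝒳₂)) f₁)
      (FibCat.toSelf 𝒴₁) ≅
    BasedFunctor.comp (BasedFunctor.comp (FibCat.fpSnd (FibCat.toSelf 𝒳₁) (FibCat.toSelf 𝒳₂)) f₂)
      (FibCat.toSelf 𝒴₂))
  (y : 𝒰 ⥤ᵇ FibCat.fp (FibCat.toSelf 𝒴₁) (FibCat.toSelf 𝒴₂))

/-- the product functor `f₁ × f₂` -/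
abbrev prodF : FibCat.fp (FibCat.toSelf 𝒳₁) (FibCat.toSelf 𝒳₂) ⥤ᵇ
    FibCat.fp (FibCat.toSelf 𝒴₁) (FibCat.toSelf 𝒴₂) :=
  FibCat.fpLift (BasedFunctor.comp (FibCat.fpFst (FibCat.toSelf 𝒳₁) (FibCat.toSelf 𝒳₂)) f₁)
    (BasedFunctor.comp (FibCat.fpSnd (FibCat.toSelf 𝒳₁) (FibCat.toSelf 𝒳₂)) f₂) e

/-- first component of `y` -/
abbrev prodY₁ : 𝒰 ⥤ᵇ 𝒴₁ :=
  BasedFunctor.comp y (FibCat.fpFst (FibCat.toSelf 𝒴₁) (FibCat.toSelf 𝒴₂))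

/-- second component of `y` -/
abbrev prodY₂ : 𝒰 ⥤ᵇ 𝒴₂ :=
  BasedFunctor.comp y (FibCat.fpSnd (FibCat.toSelf 𝒴₁) (FibCat.toSelf 𝒴₂))

/-- the first projection `𝒰 ×_{𝒴₁×𝒴₂} (𝒳₁×𝒳₂) ⟶ 𝒰 ×_{𝒴₁} 𝒳₁` -/
def prodΘ₁ : FibCat.fp y (prodF f₁ f₂ e) ⥤ᵇ FibCat.fp (prodY₁ y) f₁ :=
  FibCat.fpLift (FibCat.fpFst y (prodF f₁ f₂ e))
    (BasedFunctor.comp (FibCat.fpSnd y (prodF f₁ f₂ e))
      (FibCat.fpFst (FibCat.toSelf 𝒳₁) (FibCat.toSelf 𝒳₂)))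
    (mkBIso
      (fun ζ => (FibCat.fpFst (FibCat.toSelf 𝒴₁) (FibCat.toSelf 𝒴₂)).toFunctor.mapIso ζ.obj.iso)
      (fun {ζ ζ'} m => by
        have := congrArg (fun t => (FibCat.fpFst (FibCat.toSelf 𝒴₁) (FibCat.toSelf 𝒴₂)).toFunctor.map t)
          m.hom.w
        simp only [Functor.map_comp] at this
        exact this)
      (fun ζ => by
        have h : (FibCat.fp (FibCat.toSelf 𝒴₁) (FibCat.toSelf 𝒴₂)).p.IsHomLift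
            (𝟙 ((FibCat.fp y (prodF f₁ f₂ e)).p.obj ζ)) ζ.obj.iso.hom :=
          fp_iso_isHomLift y (prodF f₁ f₂ e) ζ
        exact BasedFunctor.preserves_isHomLift
          (FibCat.fpFst (FibCat.toSelf 𝒴₁) (FibCat.toSelf 𝒴₂)) _ _))

/-- the comparison functor `𝒰 ×_{𝒴₁×𝒴₂} (𝒳₁×𝒳₂) ⟶ (𝒰 ×_{𝒴₁} 𝒳₁) ×_{𝒴₂} 𝒳₂` -/
def prodΘ : FibCat.fp y (prodF f₁ f₂ e) ⥤ᵇ
    FibCat.fp (BasedFunctor.comp (FibCat.fpFst (prodY₁ y) f₁) (prodY₂ y)) f₂ :=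
  FibCat.fpLift (prodΘ₁ f₁ f₂ e y)
    (BasedFunctor.comp (FibCat.fpSnd y (prodF f₁ f₂ e))
      (FibCat.fpSnd (FibCat.toSelf 𝒳₁) (FibCat.toSelf 𝒳₂)))
    (mkBIso
      (fun ζ => (FibCat.fpSnd (FibCat.toSelf 𝒴₁) (FibCat.toSelf 𝒴₂)).toFunctor.mapIso ζ.obj.iso)
      (fun {ζ ζ'} m => by
        have := congrArg (fun t => (FibCat.fpSnd (FibCat.toSelf 𝒴₁) (FibCat.toSelf 𝒴₂)).toFunctor.map t)
          m.hom.w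
        simp only [Functor.map_comp] at this
        exact this)
      (fun ζ => by
        have h : (FibCat.fp (FibCat.toSelf 𝒴₁) (FibCat.toSelf 𝒴₂)).p.IsHomLift
            (𝟙 ((FibCat.fp y (prodF f₁ f₂ e)).p.obj ζ)) ζ.obj.iso.hom :=
          fp_iso_isHomLift y (prodF f₁ f₂ e) ζ
        exact BasedFunctor.preserves_isHomLift
          (FibCat.fpSnd (FibCat.toSelf 𝒴₁) (FibCat.toSelf 𝒴₂)) _ _))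

theorem prodΘ_faithful : (prodΘ f₁ f₂ e y).toFunctor.Faithful := by
  refine ⟨fun {ζ ζ'} m m' h => ?_⟩
  have h1 : ((prodΘ f₁ f₂ e y).map m).hom.fst.hom.fst = ((prodΘ f₁ f₂ e y).map m').hom.fst.hom.fst :=
    congrArg (fun t => t.hom.fst.hom.fst) h
  have h2 : ((prodΘ f₁ f₂ e y).map m).hom.fst.hom.snd = ((prodΘ f₁ f₂ e y).map m').hom.fst.hom.snd :=
    congrArg (fun t => t.hom.fst.hom.snd) h
  have h3 : ((prodΘ f₁ f₂ e y).map m).hom.snd = ((prodΘ f₁ f₂ e y).map m').hom.snd :=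
    congrArg (fun t => t.hom.snd) h
  apply fp_hom_ext
  · exact h1
  · apply fp_hom_ext
    · exact h2
    · exact h3

theorem prodΘ_full : (prodΘ f₁ f₂ e y).toFunctor.Full := by
  refine ⟨fun {ζ ζ'} φ => ?_⟩
  have hβ₁ : 𝒳₁.p.IsHomLift
      ((FibCat.fp (BasedFunctor.comp (FibCat.fpFst (prodY₁ y) f₁) (prodY₂ y)) f₂).p.map φ)
      φ.hom.fst.hom.snd := FibCat.fp_isHomLift_snd (prodY₁ y) f₁ φ.hom.fst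
  have hβ₂ : 𝒳₂.p.IsHomLift
      ((FibCat.fp (BasedFunctor.comp (FibCat.fpFst (prodY₁ y) f₁) (prodY₂ y)) f₂).p.map φ)
      φ.hom.snd :=
    FibCat.fp_isHomLift_snd (BasedFunctor.comp (FibCat.fpFst (prodY₁ y) f₁) (prodY₂ y)) f₂ φ
  let β : ζ.obj.snd ⟶ ζ'.obj.snd :=
    fpSelfHomMk (z := ζ'.obj.snd) (z' := ζ.obj.snd)
      ((FibCat.fp (BasedFunctor.comp (FibCat.fpFst (prodY₁ y) f₁) (prodY₂ y)) f₂).p.map φ)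
      φ.hom.fst.hom.snd φ.hom.snd (hα := hβ₁) (hβ := hβ₂)
  have w : y.map φ.hom.fst.hom.fst ≫ ζ'.obj.iso.hom =
      ζ.obj.iso.hom ≫ (prodF f₁ f₂ e).map β := by
    apply fp_hom_ext
    · exact φ.hom.fst.hom.w
    · exact φ.hom.w
  refine ⟨fpHomMk y (prodF f₁ f₂ e) φ.hom.fst.hom.fst β w, ?_⟩
  apply fp_hom_ext
  · apply fp_hom_ext
    · rfl
    · rfl
  · rfl

theorem lift_id_of_eq {𝒵 : BasedCategory.{v₇, u₇} C} {S S' : C} (h : S' = S) {a b : 𝒵.obj}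
    {φ : a ⟶ b} (hφ : 𝒵.p.IsHomLift (𝟙 S') φ) : 𝒵.p.IsHomLift (𝟙 S) φ := by
  subst h
  exact hφ

theorem prodΘ_essSurj
    (η : (FibCat.fp (BasedFunctor.comp (FibCat.fpFst (prodY₁ y) f₁) (prodY₂ y)) f₂).obj) :
    ∃ (ζ : (FibCat.fp y (prodF f₁ f₂ e)).obj) (ε : (prodΘ f₁ f₂ e y).obj ζ ≅ η),
      (FibCat.fp (BasedFunctor.comp (FibCat.fpFst (prodY₁ y) f₁) (prodY₂ y)) f₂).p.IsHomLift
        (𝟙 ((FibCat.fp (BasedFunctor.comp (FibCat.fpFst (prodY₁ y) f₁) (prodY₂ y)) f₂).p.obj η))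
        ε.hom := by
  let a : 𝒰.obj := η.obj.fst.obj.fst
  let x₁ : 𝒳₁.obj := η.obj.fst.obj.snd
  let x₂ : 𝒳₂.obj := η.obj.snd
  let θ₁ : (prodY₁ y).obj a ≅ f₁.obj x₁ := η.obj.fst.obj.iso
  let θ₂ : (prodY₂ y).obj a ≅ f₂.obj x₂ := η.obj.iso
  have hθ₁ : 𝒴₁.p.IsHomLift (𝟙 (𝒰.p.obj a)) θ₁.hom := fp_iso_isHomLift (prodY₁ y) f₁ η.obj.fst
  have hθ₂ : 𝒴₂.p.IsHomLift (𝟙 (𝒰.p.obj a)) θ₂.hom :=
    fp_iso_isHomLift (BasedFunctor.comp (FibCat.fpFst (prodY₁ y) f₁) (prodY₂ y)) f₂ η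
  have hx₁ : 𝒳₁.p.obj x₁ = 𝒰.p.obj a := fp_snd_obj_eq (prodY₁ y) f₁ η.obj.fst
  have hx₂ : 𝒳₂.p.obj x₂ = 𝒰.p.obj a :=
    fp_snd_obj_eq (BasedFunctor.comp (FibCat.fpFst (prodY₁ y) f₁) (prodY₂ y)) f₂ η
  let ξ : (FibCat.fp (FibCat.toSelf 𝒳₁) (FibCat.toSelf 𝒳₂)).obj :=
    ⟨{ fst := x₁, snd := x₂, iso := eqToIso (hx₁.trans hx₂.symm) },
      lift_eqToHom (FibCat.selfOver C).p (hx₁.trans hx₂.symm) rfl⟩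
  have hw : (FibCat.toSelf 𝒴₁).map θ₁.hom ≫ ((prodF f₁ f₂ e).obj ξ).obj.iso.hom =
      (y.obj a).obj.iso.hom ≫ (FibCat.toSelf 𝒴₂).map θ₂.hom := by
    have h1 : (FibCat.selfOver C).p.IsHomLift (𝟙 (𝒰.p.obj a)) ((FibCat.toSelf 𝒴₁).map θ₁.hom) :=
      BasedFunctor.preserves_isHomLift (FibCat.toSelf 𝒴₁) _ _
    have h2 : (FibCat.selfOver C).p.IsHomLift (𝟙 (𝒰.p.obj a)) ((FibCat.toSelf 𝒴₂).map θ₂.hom) :=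
      BasedFunctor.preserves_isHomLift (FibCat.toSelf 𝒴₂) _ _
    have h3 : (FibCat.selfOver C).p.IsHomLift (𝟙 (𝒰.p.obj a))
        ((prodF f₁ f₂ e).obj ξ).obj.iso.hom :=
      lift_id_of_eq ((f₁.w_obj x₁).trans hx₁)
        (fp_iso_isHomLift (FibCat.toSelf 𝒴₁) (FibCat.toSelf 𝒴₂) ((prodF f₁ f₂ e).obj ξ))
    have h4 : (FibCat.selfOver C).p.IsHomLift (𝟙 (𝒰.p.obj a)) (y.obj a).obj.iso.hom :=
      lift_id_of_eq ((prodY₁ y).w_obj a)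
        (fp_iso_isHomLift (FibCat.toSelf 𝒴₁) (FibCat.toSelf 𝒴₂) (y.obj a))
    have hL := lift_id_comp_id (FibCat.selfOver C).p h1 h3
    have hR := lift_id_comp_id (FibCat.selfOver C).p h4 h2
    exact @self_hom_ext _ _ _ _ (𝟙 (𝒰.p.obj a)) _ _ _ _ hL hR
  let θ : y.obj a ≅ (prodF f₁ f₂ e).obj ξ :=
    fpIsoMk (FibCat.toSelf 𝒴₁) (FibCat.toSelf 𝒴₂) θ₁ θ₂ hw
  have hθ : (FibCat.fp (FibCat.toSelf 𝒴₁) (FibCat.toSelf 𝒴₂)).p.IsHomLift (𝟙 (𝒰.p.obj a)) θ.hom := by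
    have : 𝒴₁.p.IsHomLift (𝟙 (𝒰.p.obj a)) θ.hom.hom.fst := hθ₁
    exact fp_isHomLift_of_fst (FibCat.toSelf 𝒴₁) (FibCat.toSelf 𝒴₂) θ.hom (𝟙 (𝒰.p.obj a))
  let ζ : (FibCat.fp y (prodF f₁ f₂ e)).obj := ⟨{ fst := a, snd := ξ, iso := θ }, hθ⟩
  let ε₁ : ((prodΘ f₁ f₂ e y).obj ζ).obj.fst ≅ η.obj.fst :=
    fpIsoMk (prodY₁ y) f₁ (z := ((prodΘ f₁ f₂ e y).obj ζ).obj.fst) (z' := η.obj.fst)
      (Iso.refl a) (Iso.refl x₁) (by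
        show (prodY₁ y).map (𝟙 a) ≫ θ₁.hom = θ₁.hom ≫ f₁.map (𝟙 x₁)
        rw [(prodY₁ y).map_id, f₁.map_id, Category.id_comp, Category.comp_id])
  let ε : (prodΘ f₁ f₂ e y).obj ζ ≅ η :=
    fpIsoMk (BasedFunctor.comp (FibCat.fpFst (prodY₁ y) f₁) (prodY₂ y)) f₂
      (z := (prodΘ f₁ f₂ e y).obj ζ) (z' := η) ε₁ (Iso.refl x₂) (by
        show (prodY₂ y).map (𝟙 a) ≫ θ₂.hom = θ₂.hom ≫ f₂.map (𝟙 x₂)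
        rw [(prodY₂ y).map_id, f₂.map_id, Category.id_comp, Category.comp_id])
  refine ⟨ζ, ε, ?_⟩
  have h1 : 𝒰.p.IsHomLift (𝟙 (𝒰.p.obj a)) ε.hom.hom.fst.hom.fst := IsHomLift.id rfl
  have h2 : (FibCat.fp (prodY₁ y) f₁).p.IsHomLift (𝟙 (𝒰.p.obj a)) ε.hom.hom.fst :=
    @fp_isHomLift_of_fst _ _ _ _ _ (prodY₁ y) f₁ _ _ ε.hom.hom.fst _ _ (𝟙 (𝒰.p.obj a)) h1
  exact @fp_isHomLift_of_fst _ _ _ _ _
    (BasedFunctor.comp (FibCat.fpFst (prodY₁ y) f₁) (prodY₂ y)) f₂ _ _ ε.hom _ _ (𝟙 (𝒰.p.obj a)) h2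

theorem isEquivOver_prodΘ : FibCat.IsEquivOver (prodΘ f₁ f₂ e y) := by
  have := prodΘ_full f₁ f₂ e y
  have := prodΘ_faithful f₁ f₂ e y
  exact isEquivOver_of_fullyFaithful_of_fiberwise_essSurj _ (fun η => prodΘ_essSurj f₁ f₂ e y η)

end prod

theorem isRepresentable1_prodF {𝒳₁ 𝒳₂ 𝒴₁ 𝒴₂ : BasedCategory.{v, max u v} C}
    (f₁ : 𝒳₁ ⥤ᵇ 𝒴₁) (f₂ : 𝒳₂ ⥤ᵇ 𝒴₂) (hf₁ : FibCat.IsRepresentable1 f₁)
    (hf₂ : FibCat.IsRepresentable1 f₂)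
    (e : BasedFunctor.comp (BasedFunctor.comp (FibCat.fpFst (FibCat.toSelf 𝒳₁) (FibCat.toSelf 𝒳₂)) f₁)
        (FibCat.toSelf 𝒴₁) ≅
      BasedFunctor.comp (BasedFunctor.comp (FibCat.fpSnd (FibCat.toSelf 𝒳₁) (FibCat.toSelf 𝒳₂)) f₂)
        (FibCat.toSelf 𝒴₂)) :
    FibCat.IsRepresentable1 (prodF f₁ f₂ e) := by
  intro U y
  obtain ⟨V₁, Φ₁, hΦ₁⟩ := hf₁ U (prodY₁ y)
  obtain ⟨d⟩ := IsEquivOver.nonempty_data hΦ₁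
  have hε : FibCat.IsEquivOver d.inv := isEquivOver_inv d
  obtain ⟨Ψ, hΨ, -⟩ := isEquivOver_fpMap_left f₂
    (BasedFunctor.comp (FibCat.fpFst (prodY₁ y) f₁) (prodY₂ y)) d.inv hε
  have h1 : FibCat.IsRepresentable
      (FibCat.fp (BasedFunctor.comp (FibCat.fpFst (prodY₁ y) f₁) (prodY₂ y)) f₂) :=
    isRepresentable_of_isEquivOver' hΨ (hf₂ V₁ _)
  exact isRepresentable_of_isEquivOver (isEquivOver_prodΘ f₁ f₂ e y) h1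

end Groth.Agent.H64
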