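import Groth.Agent.H32.Fp
import Groth.Agent.H32.FibBasic
import Groth.Agent.H32.Fiberwise

set_option autoImplicit false
open CategoryTheory CategoryTheory.Limits
universe v₄ u₄ v₃ u₃ v₂ u₂ v u

namespace Groth.Agent.H64

variable {C : Type u} [Category.{v} C] {𝒳 : BasedCategory.{v₂, u₂} C}
  {𝒴 : BasedCategory.{v₃, u₃} C} {𝒮 : BasedCategory.{v₄, u₄} C}
  (F : 𝒳 ⥤ᵇ 𝒮) (G : 𝒴 ⥤ᵇ 𝒮)

/-- two morphisms of the fibre product over an identity agree as soon as `F` is faithful and the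
fibres of `𝒴` are thin. -/
theorem fp_fiber_hom_ext [F.toFunctor.Faithful] (ht : ∀ U : C, Quiver.IsThin (𝒴.p.Fiber U))
    {U : C} {z z' : (FibCat.fp F G).obj} (m m' : z ⟶ z')
    (hm : (FibCat.fp F G).p.IsHomLift (𝟙 U) m) (hm' : (FibCat.fp F G).p.IsHomLift (𝟙 U) m') :
    m = m' := by
  have h2 : 𝒴.p.IsHomLift (𝟙 U) m.hom.snd := Groth.Agent.H32.fp_snd_isHomLift F G m (𝟙 U)
  have h2' : 𝒴.p.IsHomLift (𝟙 U) m'.hom.snd := Groth.Agent.H32.fp_snd_isHomLift F G m' (𝟙 U)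
  have hd := IsHomLift.domain_eq 𝒴.p (𝟙 U) m.hom.snd
  have hc := IsHomLift.codomain_eq 𝒴.p (𝟙 U) m.hom.snd
  have hsnd : m.hom.snd = m'.hom.snd := by
    let a : 𝒴.p.Fiber U := ⟨z.obj.snd, hd⟩
    let b : 𝒴.p.Fiber U := ⟨z'.obj.snd, hc⟩
    let φ : a ⟶ b := ⟨m.hom.snd, h2⟩
    let φ' : a ⟶ b := ⟨m'.hom.snd, h2'⟩
    have : φ = φ' := (ht U a b).elim φ φ'
    exact congrArg Subtype.val this
  have hfst : m.hom.fst = m'.hom.fst := by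
    apply F.toFunctor.map_injective
    have w := m.hom.w
    have w' := m'.hom.w
    rw [hsnd] at w
    have : F.toFunctor.map m.hom.fst ≫ z'.obj.iso.hom = F.toFunctor.map m'.hom.fst ≫ z'.obj.iso.hom :=
      w.trans w'.symm
    exact (cancel_mono _).mp this
  apply ObjectProperty.hom_ext
  exact CategoricalPullback.hom_ext hfst hsnd

theorem isFibSetoid_fp_of_faithful (h𝒮 : FibCat.IsFibGrpd 𝒮.p) (h𝒳 : FibCat.IsFibGrpd 𝒳.p)
    (h𝒴 : FibCat.IsFibSetoid 𝒴.p) [F.toFunctor.Faithful] :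
    FibCat.IsFibSetoid (FibCat.fp F G).p := by
  refine ⟨Groth.Agent.H32.isFibGrpd_fp F G h𝒳 h𝒴.1 h𝒮, fun U => ?_⟩
  intro X Y
  refine ⟨fun φ ψ => ?_⟩
  apply Functor.Fiber.hom_ext
  exact fp_fiber_hom_ext F G h𝒴.2 φ.1 ψ.1 φ.2 ψ.2

/-- a functor over `C` out of a category fibred in setoids is faithful -/
theorem faithful_of_isFibSetoid (h𝒳 : FibCat.IsFibSetoid 𝒳.p) (h𝒮 : FibCat.IsFibGrpd 𝒮.p) :
    F.toFunctor.Faithful := by
  apply Groth.Agent.H32.faithful_of_fiberFunctor_faithful F h𝒳.1 h𝒮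
  intro U
  refine ⟨fun {X Y} φ ψ _ => ?_⟩
  exact (h𝒳.2 U X Y).elim φ ψ

theorem isFibSetoid_fp (h𝒳 : FibCat.IsFibSetoid 𝒳.p) (h𝒴 : FibCat.IsFibSetoid 𝒴.p)
    (h𝒮 : FibCat.IsFibGrpd 𝒮.p) : FibCat.IsFibSetoid (FibCat.fp F G).p := by
  have := faithful_of_isFibSetoid F h𝒳 h𝒮
  exact isFibSetoid_fp_of_faithful F G h𝒮 h𝒳.1 h𝒴

end Groth.Agent.H64
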