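import Groth.Agent.H64.SpMap
import Groth.Agent.H26.FpSelf

set_option autoImplicit false
universe v₂ u₂ v₃ u₃ v₄ u₄ v₅ u₅ v u
open CategoryTheory CategoryTheory.Limits AlgebraicGeometry Opposite

namespace Groth.Agent.H64

open AlgSt Groth.Agent.H32

section general

variable {C : Type u} [Category.{v} C] {𝒳 : BasedCategory.{v₂, u₂} C} {𝒴 : BasedCategory.{v₃, u₃} C}
  (e : 𝒳 ⥤ᵇ 𝒴)

/-- the structure functors are compatible with a functor over `C` -/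
def toSelfIso : BasedFunctor.comp (FibCat.toSelf 𝒳) (BasedFunctor.id (FibCat.selfOver C)) ≅
    BasedFunctor.comp e (FibCat.toSelf 𝒴) :=
  mkBIso (fun x => eqToIso (e.w_obj x).symm)
    (fun {x x'} m => by
      show 𝒳.p.map m ≫ eqToHom (e.w_obj x').symm = eqToHom (e.w_obj x).symm ≫ 𝒴.p.map (e.map m)
      have := Functor.congr_hom e.w m
      simp only [Functor.comp_map] at this
      rw [this]
      simp)
    (fun x => lift_eqToHom (FibCat.selfOver C).p (e.w_obj x).symm rfl)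

/-- the functor `𝒳 × 𝒳 ⟶ 𝒴 × 𝒴` induced by `e` -/
def prodMapSelf : FibCat.fp (FibCat.toSelf 𝒳) (FibCat.toSelf 𝒳) ⥤ᵇ
    FibCat.fp (FibCat.toSelf 𝒴) (FibCat.toSelf 𝒴) :=
  fpMap (FibCat.toSelf 𝒴) (FibCat.toSelf 𝒴) (FibCat.toSelf 𝒳) (FibCat.toSelf 𝒳) e e
    (BasedFunctor.id _) (toSelfIso e) (toSelfIso e)

theorem isEquivOver_prodMapSelf (he : FibCat.IsEquivOver e) : FibCat.IsEquivOver (prodMapSelf e) := by
  have : (BasedFunctor.id (FibCat.selfOver C)).toFunctor.Full := (inferInstance : (𝟭 C).Full)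
  have : (BasedFunctor.id (FibCat.selfOver C)).toFunctor.Faithful :=
    (inferInstance : (𝟭 C).Faithful)
  exact isEquivOver_fpMap _ _ _ _ _ _ _ _ _ he he

/-- the square of diagonals commutes up to 2-isomorphism -/
def diagSquareIso : BasedFunctor.comp (FibCat.diag (FibCat.toSelf 𝒳)) (prodMapSelf e) ≅
    BasedFunctor.comp e (FibCat.diag (FibCat.toSelf 𝒴)) :=
  mkBIso
    (fun x => fpIsoMk (FibCat.toSelf 𝒴) (FibCat.toSelf 𝒴)
      (z := (prodMapSelf e).obj ((FibCat.diag (FibCat.toSelf 𝒳)).obj x))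
      (z' := (FibCat.diag (FibCat.toSelf 𝒴)).obj (e.obj x)) (Iso.refl _) (Iso.refl _) (by
        have h1 := fp_iso_isHomLift (FibCat.toSelf 𝒴) (FibCat.toSelf 𝒴)
          ((prodMapSelf e).obj ((FibCat.diag (FibCat.toSelf 𝒳)).obj x))
        have h2 := fp_iso_isHomLift (FibCat.toSelf 𝒴) (FibCat.toSelf 𝒴)
          ((FibCat.diag (FibCat.toSelf 𝒴)).obj (e.obj x))
        have h3 : (FibCat.selfOver C).p.IsHomLift (𝟙 (𝒴.p.obj (e.obj x)))
            ((FibCat.toSelf 𝒴).map (𝟙 (e.obj x))) :=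
          (BasedFunctor.isHomLift_iff (FibCat.toSelf 𝒴) _ _).mpr (IsHomLift.id rfl)
        have hL := lift_id_comp_id (FibCat.selfOver C).p h3 h2
        have hR := lift_id_comp_id (FibCat.selfOver C).p h1 h3
        exact @Groth.Agent.H26.self_hom_ext _ _ _ _ (𝟙 (𝒴.p.obj (e.obj x))) _ _ _ _ hL hR))
    (fun {x x'} m => by
      apply fp_hom_ext
      · show e.map m ≫ 𝟙 _ = 𝟙 _ ≫ e.map m
        simp
      · show e.map m ≫ 𝟙 _ = 𝟙 _ ≫ e.map m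
        simp)
    (fun x => by
      have : 𝒴.p.IsHomLift (𝟙 (𝒳.p.obj x)) (𝟙 (e.obj x)) := IsHomLift.id (e.w_obj x)
      exact @fp_isHomLift_of_fst _ _ _ _ _ (FibCat.toSelf 𝒴) (FibCat.toSelf 𝒴) _ _ _ _ _
        (𝟙 (𝒳.p.obj x)) this)

end general

section algst

variable {S : Scheme.{u}} {𝒳 : BasedCategory.{v₂, u₂} (Over S)} {𝒴 : BasedCategory.{v₃, u₃} (Over S)}

theorem repByAlgSp_of_isEquivOver {Φ : 𝒳 ⥤ᵇ 𝒴} (hΦ : FibCat.IsEquivOver Φ) (h : RepByAlgSp 𝒳) :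
    RepByAlgSp 𝒴 := by
  obtain ⟨F, e, he⟩ := h
  exact ⟨F, BasedFunctor.comp e Φ, isEquivOver_comp he hΦ⟩

theorem repByAlgSp_of_isEquivOver' {Φ : 𝒳 ⥤ᵇ 𝒴} (hΦ : FibCat.IsEquivOver Φ) (h : RepByAlgSp 𝒴) :
    RepByAlgSp 𝒳 := by
  obtain ⟨d⟩ := IsEquivOver.nonempty_data hΦ
  exact repByAlgSp_of_isEquivOver (isEquivOver_inv d) h

section square

variable {𝒳' : BasedCategory.{v₄, u₄} (Over S)} {𝒴' : BasedCategory.{v₅, u₅} (Over S)}
  (f : 𝒳 ⥤ᵇ 𝒴) (f' : 𝒳' ⥤ᵇ 𝒴') (a : 𝒳' ⥤ᵇ 𝒳) (b : 𝒴' ⥤ᵇ 𝒴)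
  (ha : FibCat.IsEquivOver a) (hb : FibCat.IsEquivOver b)
  (e : BasedFunctor.comp f' b ≅ BasedFunctor.comp a f)

include ha hb e

theorem repByAlgSp1_of_square (hf : RepByAlgSp1 f) : RepByAlgSp1 f' := by
  intro U y'
  obtain ⟨Ψ, hΨ, -⟩ := exists_equiv_fp_of_square f f' a b ha hb e y'
  exact repByAlgSp_of_isEquivOver' hΨ (hf U (BasedFunctor.comp y' b))

theorem repByAlgSp1_of_square' (hf' : RepByAlgSp1 f') : RepByAlgSp1 f := by
  intro U y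
  obtain ⟨y', Ψ, hΨ, -⟩ := exists_equiv_fp_of_square' f f' a b ha hb e y
  exact repByAlgSp_of_isEquivOver hΨ (hf' U y')

end square

theorem repByAlgSpWith_comp_equiv (P : MorphismProperty (AlgSp.Sp S)) {U : Over S}
    (x : FibCat.overCat U ⥤ᵇ 𝒳) (e : 𝒳 ⥤ᵇ 𝒴) (he : FibCat.IsEquivOver e)
    (hx : RepByAlgSpWith P x) : RepByAlgSpWith P (BasedFunctor.comp x e) :=
  repByAlgSpWith_of_square' P (BasedFunctor.comp x e) x (BasedFunctor.id _) e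
    (isEquivOver_id _) he (Iso.refl _) hx

theorem hasAtlas_of_isEquivOver (P : MorphismProperty (AlgSp.Sp S)) (e : 𝒳 ⥤ᵇ 𝒴)
    (he : FibCat.IsEquivOver e) (h : HasAtlas P 𝒳) : HasAtlas P 𝒴 := by
  obtain ⟨U, x, h1, h2⟩ := h
  exact ⟨U, BasedFunctor.comp x e, repByAlgSpWith_comp_equiv P x e he h1,
    repByAlgSpWith_comp_equiv _ x e he h2⟩

theorem isAlgStack_of_isEquivOver (K : Precoverage Scheme.{u}) (e : 𝒳 ⥤ᵇ 𝒴)
    (he : FibCat.IsEquivOver e) (h : IsAlgStack K 𝒳) : IsAlgStack K 𝒴 where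
  isStack := (isStack_iff_of_isEquivOver _ he).mp h.isStack
  diag := repByAlgSp1_of_square' (FibCat.diag (FibCat.toSelf 𝒴)) (FibCat.diag (FibCat.toSelf 𝒳)) e
    (prodMapSelf e) he (isEquivOver_prodMapSelf e he) (diagSquareIso e) h.diag
  atlas := hasAtlas_of_isEquivOver _ e he h.atlas

theorem isAlgStack_iff_of_isEquivOver (K : Precoverage Scheme.{u}) (e : 𝒳 ⥤ᵇ 𝒴)
    (he : FibCat.IsEquivOver e) : IsAlgStack K 𝒳 ↔ IsAlgStack K 𝒴 := by
  obtain ⟨d⟩ := IsEquivOver.nonempty_data he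
  exact ⟨isAlgStack_of_isEquivOver K e he, isAlgStack_of_isEquivOver K d.inv (isEquivOver_inv d)⟩

theorem isDM_iff_of_isEquivOver (K : Precoverage Scheme.{u}) (e : 𝒳 ⥤ᵇ 𝒴)
    (he : FibCat.IsEquivOver e) : IsDM K 𝒳 ↔ IsDM K 𝒴 := by
  obtain ⟨d⟩ := IsEquivOver.nonempty_data he
  constructor
  · rintro ⟨h1, h2⟩
    exact ⟨isAlgStack_of_isEquivOver K e he h1, hasAtlas_of_isEquivOver _ e he h2⟩
  · rintro ⟨h1, h2⟩
    exact ⟨isAlgStack_of_isEquivOver K d.inv (isEquivOver_inv d) h1,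
      hasAtlas_of_isEquivOver _ d.inv (isEquivOver_inv d) h2⟩

end algst

end Groth.Agent.H64
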