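import Groth.Prelude.Def_AlgSt3
import Groth.Agent.H64.Stk.FaithfulRep

set_option autoImplicit false
universe u
open CategoryTheory CategoryTheory.Limits AlgebraicGeometry Opposite

namespace Groth.Agent.H64

open AlgSt Groth.Agent.H32

variable {S : Scheme.{u}}

/-- a monomorphism of fppf sheaves is injective on sections -/
theorem injective_app_of_mono {F G : AlgSp.Sp S} (φ : F ⟶ G) [Mono φ] (T : Over S) :
    Function.Injective (φ.hom.app (op T)) := by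
  intro σ σ' h
  let E := GrothendieckTopology.uliftYonedaEquiv.{u + 1} (AlgSp.J S) (X := T) (F := F)
  let E' := GrothendieckTopology.uliftYonedaEquiv.{u + 1} (AlgSp.J S) (X := T) (F := G)
  have h1 : E.symm σ ≫ φ = E.symm σ' ≫ φ := by
    apply E'.injective
    have e1 : E' (E.symm σ ≫ φ) = φ.hom.app _ (E (E.symm σ)) :=
      GrothendieckTopology.uliftYonedaEquiv_comp (AlgSp.J S) (E.symm σ) φ
    have e2 : E' (E.symm σ' ≫ φ) = φ.hom.app _ (E (E.symm σ')) :=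
      GrothendieckTopology.uliftYonedaEquiv_comp (AlgSp.J S) (E.symm σ') φ
    rw [e1, e2, Equiv.apply_symm_apply, Equiv.apply_symm_apply]
    exact h
  have h2 := (cancel_mono φ).mp h1
  exact E.symm.injective h2

/-- every endomorphism of the terminal object of a slice is the identity -/
theorem over_end_terminal {C : Type*} [Category C] {U : C} (m : Over.mk (𝟙 U) ⟶ Over.mk (𝟙 U)) :
    m = 𝟙 _ := by
  apply Over.OverMorphism.ext
  have := Over.w m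
  simpa using this

section aux4

theorem mono_aux {D : Type*} [Category D] {A B B' : D} (θ' : A ≅ B') (b : B ⟶ B') [IsIso b]
    (c : B ⟶ B') (m : A ⟶ A) (hm : m = 𝟙 A) (hw : m ≫ θ'.hom = (θ'.hom ≫ inv b) ≫ c) : c = b := by
  subst hm
  rw [Category.id_comp, Category.assoc] at hw
  have h1 : θ'.hom ≫ 𝟙 _ = θ'.hom ≫ (inv b ≫ c) := by rw [Category.comp_id]; exact hw
  have h2 := (Iso.cancel_iso_hom_left θ' _ _).mp h1
  have h3 : b ≫ 𝟙 _ = b ≫ (inv b ≫ c) := by rw [h2]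
  rw [IsIso.hom_inv_id_assoc, Category.comp_id] at h3
  exact h3.symm

end aux4

section key

variable {F : AlgSp.Sp S} {U : Over S} (Φ : ofSp F ⥤ᵇ FibCat.overCat U)

/-- the section over `U` attached to an object whose image is isomorphic to the terminal object -/
theorem secHom_eq_id_of_iso (σ : F.obj.obj (op U)) (lam : Φ.obj ⟨U, σ⟩ ⟶ Over.mk (𝟙 U))
    (hlam : (FibCat.overCat U).p.IsHomLift (𝟙 U) lam) : secHom Φ ⟨U, σ⟩ = 𝟙 U := by
  have hX : (Φ.obj ⟨U, σ⟩).left = U := Φ.w_obj ⟨U, σ⟩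
  have h1 : lam.left ≫ 𝟙 U = (Φ.obj ⟨U, σ⟩).hom := Over.w lam
  have h2 : lam.left = eqToHom hX ≫ 𝟙 U ≫ eqToHom rfl :=
    IsHomLift.fac' (FibCat.overCat U).p (𝟙 U) lam
  have h3 : (Φ.obj ⟨U, σ⟩).hom = eqToHom hX := by
    have e1 : eqToHom hX ≫ 𝟙 U ≫ eqToHom rfl = eqToHom hX :=
      (congrArg (eqToHom hX ≫ ·) (Category.comp_id (𝟙 U))).trans (Category.comp_id _)
    have e2 : lam.left ≫ 𝟙 U = lam.left := Category.comp_id _
    exact h1.symm.trans (e2.trans (h2.trans e1))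
  have h4 : secHom Φ ⟨U, σ⟩ = eqToHom hX.symm ≫ (Φ.obj ⟨U, σ⟩).hom := rfl
  rw [h4, h3, eqToHom_trans, eqToHom_refl]

theorem sec_eq_of_iso_terminal [Mono (spMapOfOver Φ)] (σ σ' : F.obj.obj (op U))
    (lam : Φ.obj ⟨U, σ⟩ ⟶ Over.mk (𝟙 U)) (hlam : (FibCat.overCat U).p.IsHomLift (𝟙 U) lam)
    (lam' : Φ.obj ⟨U, σ'⟩ ⟶ Over.mk (𝟙 U)) (hlam' : (FibCat.overCat U).p.IsHomLift (𝟙 U) lam') :
    σ = σ' := by
  apply injective_app_of_mono (spMapOfOver Φ) U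
  rw [spMapOfOver_app, spMapOfOver_app, secHom_eq_id_of_iso Φ σ lam hlam,
    secHom_eq_id_of_iso Φ σ' lam' hlam']

/-- objects of `ofSp F` over `U` whose images are both isomorphic (over the identity) to the
terminal object of the slice are equal, when the induced map of sheaves is a monomorphism. -/
theorem obj_eq_of_iso_terminal [Mono (spMapOfOver Φ)] (s s' : (ofSp F).obj)
    (lam : Φ.obj s ⟶ Over.mk (𝟙 U)) (hlam : (FibCat.overCat U).p.IsHomLift (𝟙 U) lam)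
    (lam' : Φ.obj s' ⟶ Over.mk (𝟙 U)) (hlam' : (FibCat.overCat U).p.IsHomLift (𝟙 U) lam') :
    s = s' := by
  have hs : s.base = U := by
    have := IsHomLift.domain_eq (FibCat.overCat U).p (𝟙 U) lam
    exact (Φ.w_obj s).symm.trans this
  have hs' : s'.base = U := by
    have := IsHomLift.domain_eq (FibCat.overCat U).p (𝟙 U) lam'
    exact (Φ.w_obj s').symm.trans this
  obtain ⟨B, σ⟩ := s
  obtain ⟨B', σ'⟩ := s'
  change B = U at hs
  change B' = U at hs'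
  subst hs
  subst hs'
  rw [sec_eq_of_iso_terminal Φ σ σ' lam hlam lam' hlam']

end key

section main

variable {𝒳 𝒴 : AlgSt.Cat S}

theorem faithful_of_repByAlgSpWith (h𝒳 : FibCat.IsFibGrpd 𝒳.p) (h𝒴 : FibCat.IsFibGrpd 𝒴.p)
    (P : MorphismProperty (AlgSp.Sp S)) (j : 𝒳 ⥤ᵇ 𝒴) (hj : RepByAlgSpWith P j) :
    j.toFunctor.Faithful := by
  apply faithful_of_thin_fp_slices j h𝒳 h𝒴
  intro U y V
  obtain ⟨F, e, he, -⟩ := hj U y
  exact ((isFibSetoid_iff_of_isEquivOver he).mp (isFibSetoid_ofPsh F.obj.obj)).2 V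

theorem full_of_isMono (h𝒳 : FibCat.IsFibGrpd 𝒳.p) (h𝒴 : FibCat.IsFibGrpd 𝒴.p)
    (j : 𝒳 ⥤ᵇ 𝒴) (hj : IsMono j) : j.toFunctor.Full := by
  apply full_of_fiberFunctor_full j h𝒳 h𝒴
  intro U
  refine ⟨fun {X Y} β => ?_⟩
  have hfib : 𝒴.p.IsFibered := isFibered_of_fibGrpd _ h𝒴
  have hjY : 𝒴.p.obj (j.obj Y.1) = U := (j.w_obj Y.1).trans Y.2
  let y : FibCat.overCat U ⥤ᵇ 𝒴 := yonedaBased (j.obj Y.1) hjY
  let T : Over U := ovT U
  have hpT : 𝒴.p.IsHomLift (𝟙 U) (yonedaProj (j.obj Y.1) hjY T) :=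
    (yonedaProj_isStronglyCartesian (j.obj Y.1) hjY T).toIsHomLift
  have iT : IsIso (yonedaProj (j.obj Y.1) hjY T) := isIso_of_lift_id 𝒴.p h𝒴 hpT
  have hβ : 𝒴.p.IsHomLift (𝟙 U) β.1 := β.2
  have iβ : IsIso β.1 := isIso_of_lift_id 𝒴.p h𝒴 hβ
  have hβinv : 𝒴.p.IsHomLift (𝟙 U) (inv β.1) := lift_inv_of_isIso 𝒴.p _ hβ
  let θ : y.obj T ≅ j.obj X.1 :=
    @asIso _ _ _ _ (yonedaProj (j.obj Y.1) hjY T) iT ≪≫ (@asIso _ _ _ _ β.1 iβ).symm
  let θ' : y.obj T ≅ j.obj Y.1 := @asIso _ _ _ _ (yonedaProj (j.obj Y.1) hjY T) iT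
  have hθ : 𝒴.p.IsHomLift (𝟙 U) θ.hom := lift_id_comp_id 𝒴.p hpT hβinv
  let z : (FibCat.fp y j).obj := ⟨⟨T, X.1, θ⟩, hθ⟩
  let z' : (FibCat.fp y j).obj := ⟨⟨T, Y.1, θ'⟩, hpT⟩
  -- the representing space
  obtain ⟨F, e, he, hmono⟩ := hj U y
  have hmono' : Mono (spMapOfOver (BasedFunctor.comp e (FibCat.fpFst y j))) := hmono
  obtain ⟨d⟩ := IsEquivOver.nonempty_data he
  let s : (ofSp F.obj).obj := d.inv.obj z
  let s' : (ofSp F.obj).obj := d.inv.obj z'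
  have hε : (FibCat.fp y j).p.IsHomLift (𝟙 U) (d.counitIso.hom.app z) := d.counit_isHomLift z
  have hε' : (FibCat.fp y j).p.IsHomLift (𝟙 U) (d.counitIso.hom.app z') := d.counit_isHomLift z'
  have hεi' : (FibCat.fp y j).p.IsHomLift (𝟙 U) (d.counitIso.inv.app z') :=
    d.counit_inv_isHomLift z'
  have hlam : (FibCat.overCat U).p.IsHomLift (𝟙 U) (d.counitIso.hom.app z).hom.fst :=
    fp_fst_isHomLift y j (d.counitIso.hom.app z) (𝟙 U)
  have hlam' : (FibCat.overCat U).p.IsHomLift (𝟙 U) (d.counitIso.hom.app z').hom.fst :=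
    fp_fst_isHomLift y j (d.counitIso.hom.app z') (𝟙 U)
  have hss : s = s' :=
    obj_eq_of_iso_terminal (BasedFunctor.comp e (FibCat.fpFst y j)) s s'
      (d.counitIso.hom.app z).hom.fst hlam (d.counitIso.hom.app z').hom.fst hlam'
  -- the resulting morphism `z ⟶ z'`
  let μ : z ⟶ z' := d.counitIso.inv.app z ≫ e.map (eqToHom hss) ≫ d.counitIso.hom.app z'
  have hεi : (FibCat.fp y j).p.IsHomLift (𝟙 U) (d.counitIso.inv.app z) := d.counit_inv_isHomLift z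
  have hsU : (ofSp F.obj).p.obj s = U := d.inv.w_obj z
  have heq : (ofSp F.obj).p.IsHomLift (𝟙 U) (eqToHom hss) := lift_eqToHom _ hss hsU
  have hemap : (FibCat.fp y j).p.IsHomLift (𝟙 U) (e.map (eqToHom hss)) :=
    (BasedFunctor.isHomLift_iff e _ _).mpr heq
  have hμ : (FibCat.fp y j).p.IsHomLift (𝟙 U) μ :=
    lift_id_comp_id _ hεi (lift_id_comp_id _ hemap hε')
  have hμ1 : μ.hom.fst = 𝟙 T := over_end_terminal μ.hom.fst
  have hα : 𝒳.p.IsHomLift (𝟙 U) μ.hom.snd := fp_snd_isHomLift y j μ (𝟙 U)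
  refine ⟨⟨μ.hom.snd, hα⟩, ?_⟩
  apply Functor.Fiber.hom_ext
  show j.map μ.hom.snd = β.1
  have hw : y.map μ.hom.fst ≫ θ'.hom = θ.hom ≫ j.map μ.hom.snd := μ.hom.w
  have h1 : y.map μ.hom.fst = 𝟙 (y.obj T) := by
    rw [hμ1]; exact y.toFunctor.map_id T
  exact @mono_aux _ _ _ _ _ θ' β.1 iβ (j.map μ.hom.snd) (y.map μ.hom.fst) h1 hw

theorem full_faithful_of_isMono (h𝒳 : FibCat.IsFibGrpd 𝒳.p) (h𝒴 : FibCat.IsFibGrpd 𝒴.p)
    (j : 𝒳 ⥤ᵇ 𝒴) (hj : IsMono j) : j.toFunctor.Full ∧ j.toFunctor.Faithful :=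
  ⟨full_of_isMono h𝒳 h𝒴 j hj, faithful_of_repByAlgSpWith h𝒳 h𝒴 _ j hj⟩

end main

end Groth.Agent.H64
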