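import Mathlib
import Groth.Prelude.Def_AlgSt3

set_option autoImplicit false
universe u
open CategoryTheory CategoryTheory.Limits AlgebraicGeometry Opposite

namespace Groth.Agent.H64

/-- an unramified morphism of schemes (locally of finite type and formally unramified) is locally
quasi-finite -/
theorem locallyQuasiFinite_of_unramified {X Y : Scheme.{u}} (f : X ⟶ Y) [LocallyOfFiniteType f]
    [FormallyUnramified f] : LocallyQuasiFinite f := by
  refine ⟨fun {U} hU {V} hV e => ?_⟩
  have h1 : (f.appLE U V e).hom.FiniteType := f.finiteType_appLE hU hV e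
  have h2 : (f.appLE U V e).hom.FormallyUnramified := f.formallyUnramified_appLE hU hV e
  algebraize [(f.appLE U V e).hom]
  have : Algebra.QuasiFinite Γ(Y, U) Γ(X, V) := inferInstance
  exact this

theorem locP_mono {S : Scheme.{u}} {P Q : MorphismProperty Scheme.{u}} (h : P ≤ Q)
    {F G : AlgSp.Sp S} {f : F ⟶ G} (hf : AlgSp.LocP P f) : AlgSp.LocP Q f :=
  fun _ _ a b m ha hb hcomm => h _ (hf a b m ha hb hcomm)

theorem unramified_le_quasiFinite :
    (@LocallyOfFiniteType ⊓ @FormallyUnramified : MorphismProperty Scheme.{u}) ≤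
      (@LocallyQuasiFinite ⊓ @LocallyOfFiniteType : MorphismProperty Scheme.{u}) := by
  intro X Y f hf
  have h1 : LocallyOfFiniteType f := hf.1
  have h2 : FormallyUnramified f := hf.2
  exact ⟨locallyQuasiFinite_of_unramified f, h1⟩

theorem repByAlgSpWith_mono {S : Scheme.{u}} {P Q : MorphismProperty (AlgSp.Sp S)} (h : P ≤ Q)
    {𝒳 𝒴 : AlgSt.Cat S} {f : 𝒳 ⥤ᵇ 𝒴} (hf : AlgSt.RepByAlgSpWith P f) :
    AlgSt.RepByAlgSpWith Q f := by
  intro U y
  obtain ⟨F, e, he, hP⟩ := hf U y
  exact ⟨F, e, he, h _ hP⟩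

end Groth.Agent.H64
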