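import Groth.Agent.H64.Stk.Lift
import Mathlib.CategoryTheory.CatCommSq
import Mathlib.CategoryTheory.Limits.Shapes.Pullback.Categorical.Basic

set_option autoImplicit false
universe u v u₂ v₂ u₃ v₃
open CategoryTheory CategoryTheory.Limits CategoryTheory.Limits.CategoricalPullback

namespace Groth.Agent.H64

variable {C : Type u} [Category.{v} C] {D : Type u₂} [Category.{v₂} D] {𝒮 : Type u₃}
  [Category.{v₃} 𝒮]

theorem isFibered_categoricalPullback_fst (u : C ⥤ D) (p : 𝒮 ⥤ D) [p.IsFibered] :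
    (CategoricalPullback.π₁ u p).IsFibered := by
  apply Functor.IsFibered.of_exists_isStronglyCartesian
  intro z R f
  -- `f : R ⟶ z.fst`
  let f₀ : R ⟶ z.fst := f
  let g : u.obj R ⟶ p.obj z.snd := u.map f₀ ≫ z.iso.hom
  obtain ⟨s', ψ, hψ⟩ := Functor.IsPreFibered.exists_isCartesian' (p := p) (a := z.snd) g
  have hψs : p.IsStronglyCartesian g ψ := inferInstance
  have hψl : p.IsHomLift g ψ := inferInstance
  have hs' : p.obj s' = u.obj R := lift_domain_eq p hψl
  have hfac : p.map ψ = eqToHom hs' ≫ g := by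
    have := IsHomLift.fac' p g ψ
    simpa using this
  let z' : CategoricalPullback u p := ⟨R, s', eqToIso hs'.symm⟩
  let φ : z' ⟶ z := ⟨f₀, ψ, by
    show u.map f₀ ≫ z.iso.hom = eqToHom hs'.symm ≫ p.map ψ
    rw [hfac]; simp [g]⟩
  refine ⟨z', φ, ?_⟩
  have hφl : (CategoricalPullback.π₁ u p).IsHomLift f φ :=
    (inferInstance : (CategoricalPullback.π₁ u p).IsHomLift ((CategoricalPullback.π₁ u p).map φ) φ)
  refine { toIsHomLift := hφl, universal_property' := ?_ }
  intro z'' h φ' hφ'
  let h₀ : z''.fst ⟶ R := h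
  have hφ'fst : φ'.fst = h₀ ≫ f₀ := by
    have := IsHomLift.fac' (CategoricalPullback.π₁ u p) (h ≫ f) φ'
    simp only [eqToHom_refl, Category.id_comp, Category.comp_id] at this
    exact this
  let k : p.obj z''.snd ⟶ u.obj R := z''.iso.inv ≫ u.map h₀
  have hk : p.IsHomLift (k ≫ g) φ'.snd := by
    apply IsHomLift.of_fac' p (k ≫ g) φ'.snd rfl rfl
    have w := φ'.w
    simp only [eqToHom_refl, Category.id_comp, Category.comp_id, k, g, Category.assoc]
    rw [← u.map_comp_assoc, ← hφ'fst, w]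
    simp
  obtain ⟨χ₂, hχ₂, hχ₂fac⟩ := cart_lift p hψs k (k ≫ g) rfl φ'.snd hk
  have hχ₂map : p.map χ₂ = k ≫ eqToHom hs'.symm := by
    have := IsHomLift.fac' p k χ₂
    simpa using this
  let χ : z'' ⟶ z' := ⟨h₀, χ₂, by
    show u.map h₀ ≫ eqToHom hs'.symm = z''.iso.hom ≫ p.map χ₂
    rw [hχ₂map]; simp [k]⟩
  have hχl : (CategoricalPullback.π₁ u p).IsHomLift h χ :=
    (inferInstance : (CategoricalPullback.π₁ u p).IsHomLift ((CategoricalPullback.π₁ u p).map χ) χ)
  refine ⟨χ, ⟨hχl, ?_⟩, ?_⟩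
  · apply CategoricalPullback.hom_ext
    · exact hφ'fst.symm
    · exact hχ₂fac
  · rintro χ' ⟨hχ'l, hχ'fac⟩
    have h1 : χ'.fst = h₀ := by
      have := IsHomLift.fac' (CategoricalPullback.π₁ u p) h χ'
      simp only [eqToHom_refl, Category.id_comp] at this
      exact this.trans (Category.comp_id h)
    apply CategoricalPullback.hom_ext
    · exact h1
    · have hχ'2 : p.IsHomLift k χ'.snd := by
        apply IsHomLift.of_fac' p k χ'.snd rfl hs'
        have w := χ'.w
        have w' : u.map χ'.fst ≫ eqToHom hs'.symm = z''.iso.hom ≫ p.map χ'.snd := w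
        rw [h1] at w'
        simp only [eqToHom_refl, Category.id_comp, k, Category.assoc]
        rw [← cancel_epi z''.iso.hom, ← w']
        simp
      have h2 : χ'.snd ≫ ψ = φ'.snd := by
        have := congrArg (fun m => m.snd) hχ'fac
        exact this
      exact cart_ext p hψs k hχ'2 hχ₂ (h2.trans hχ₂fac.symm)

end Groth.Agent.H64
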