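import Groth.Prelude.Def_HopfRep
import Groth.Prelude.Def_Hoch
import Mathlib.RingTheory.HopfAlgebra.Basic

set_option autoImplicit false
universe u v w w'
open HopfRep TensorProduct

namespace Groth.Agent.H64

section Coalg

variable (k : Type u) [CommRing k] (A : Type v) [AddCommGroup A] [Module k A] [Coalgebra k A]
    (M : Type w) [AddCommGroup M] [Module k M] [HopfRep.Comod k A M]
    (N : Type w') [AddCommGroup N] [Module k N]

/-- `ρ ⊗ id` after `ρ` in terms of the comultiplication -/
theorem rTensor_coact_comp_coact :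
    (HopfRep.Comod.coact (k := k) (A := A) (V := M)).rTensor A ∘ₗ HopfRep.Comod.coact (k := k) (A := A) =
      (TensorProduct.assoc k M A A).symm.toLinearMap ∘ₗ
        (CoalgebraStruct.comul (R := k) (A := A)).lTensor M ∘ₗ HopfRep.Comod.coact (k := k) (A := A) := by
  rw [← HopfRep.Comod.coassoc]
  ext m
  simp

omit [Comod k A M] in
theorem coactAux_comp_rTensor (h : M →ₗ[k] N) :
    Hoch.Ind.coactAux k A N ∘ₗ h.rTensor A =
      (h.rTensor A).rTensor A ∘ₗ (TensorProduct.assoc k M A A).symm.toLinearMap ∘ₗ
        (CoalgebraStruct.comul (R := k) (A := A)).lTensor M := by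
  ext m a
  simp only [TensorProduct.AlgebraTensorModule.curry_apply, TensorProduct.curry_apply,
    LinearMap.coe_restrictScalars, LinearMap.comp_apply, LinearMap.rTensor_tmul,
    Hoch.Ind.coactAux_tmul, LinearMap.lTensor_tmul, LinearEquiv.coe_coe]
  generalize CoalgebraStruct.comul (R := k) a = z
  induction z using TensorProduct.induction_on with
  | zero => simp
  | tmul x y => simp
  | add x y hx hy => simp only [TensorProduct.tmul_add, map_add, hx, hy]

theorem counit_rTensor_comp_coactAux :
    ((TensorProduct.rid k N).toLinearMap ∘ₗ (Coalgebra.counit (R := k) (A := A)).lTensor N).rTensor A ∘ₗ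
      Hoch.Ind.coactAux k A N = LinearMap.id := by
  ext n a
  simp only [TensorProduct.AlgebraTensorModule.curry_apply, TensorProduct.curry_apply,
    LinearMap.coe_restrictScalars, LinearMap.comp_apply,
    Hoch.Ind.coactAux_tmul, LinearMap.id_apply]
  have h := Coalgebra.rTensor_counit_comul (R := k) a
  have key : ∀ z : A ⊗[k] A, (((TensorProduct.rid k N).toLinearMap ∘ₗ
      (Coalgebra.counit (R := k) (A := A)).lTensor N).rTensor A)
      ((TensorProduct.assoc k N A A).symm (n ⊗ₜ[k] z)) =
      n ⊗ₜ[k] (TensorProduct.lid k A ((Coalgebra.counit (R := k) (A := A)).rTensor A z)) := by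
    intro z
    induction z using TensorProduct.induction_on with
    | zero => simp
    | tmul x y => simp [TensorProduct.smul_tmul]
    | add x y hx hy => simp only [TensorProduct.tmul_add, map_add, hx, hy]
  rw [key, h]
  simp

/-- the comodule map `M → N ⊗ A` attached to a linear map `M → N` (plain tensor product) -/
noncomputable def toIndAux (h : M →ₗ[k] N) : M →ₗ[k] N ⊗[k] A :=
  h.rTensor A ∘ₗ HopfRep.Comod.coact (k := k) (A := A)

theorem coactAux_comp_toIndAux (h : M →ₗ[k] N) :
    Hoch.Ind.coactAux k A N ∘ₗ toIndAux k A M N h =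
      (toIndAux k A M N h).rTensor A ∘ₗ HopfRep.Comod.coact (k := k) (A := A) := by
  unfold toIndAux
  rw [← LinearMap.comp_assoc, coactAux_comp_rTensor, LinearMap.rTensor_comp]
  rw [LinearMap.comp_assoc, LinearMap.comp_assoc, LinearMap.comp_assoc, rTensor_coact_comp_coact]

/-- `id ⊗ ε` on the plain tensor product -/
noncomputable def counitAux : N ⊗[k] A →ₗ[k] N :=
  (TensorProduct.rid k N).toLinearMap ∘ₗ (Coalgebra.counit (R := k) (A := A)).lTensor N

theorem counitAux_comp_toIndAux (h : M →ₗ[k] N) : counitAux k A N ∘ₗ toIndAux k A M N h = h := by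
  unfold counitAux toIndAux
  have h1 : ((TensorProduct.rid k N).toLinearMap ∘ₗ (Coalgebra.counit (R := k) (A := A)).lTensor N) ∘ₗ
      h.rTensor A = h ∘ₗ (TensorProduct.rid k M).toLinearMap ∘ₗ
        (Coalgebra.counit (R := k) (A := A)).lTensor M := by
    ext m a
    simp
  rw [← LinearMap.comp_assoc, h1, LinearMap.comp_assoc, LinearMap.comp_assoc,
    HopfRep.Comod.counit_comp]
  ext m
  simp

theorem toIndAux_counitAux_comp (f : M →ₗ[k] N ⊗[k] A)
    (hf : Hoch.Ind.coactAux k A N ∘ₗ f = f.rTensor A ∘ₗ HopfRep.Comod.coact (k := k) (A := A)) :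
    toIndAux k A M N (counitAux k A N ∘ₗ f) = f := by
  unfold toIndAux counitAux
  rw [LinearMap.rTensor_comp, LinearMap.comp_assoc, ← hf, ← LinearMap.comp_assoc,
    counit_rTensor_comp_coactAux, LinearMap.id_comp]

end Coalg

end Groth.Agent.H64
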