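import Mathlib.RingTheory.Ideal.Maximal
import Mathlib.Algebra.Ring.Action.Basic
import Mathlib.RingTheory.Ideal.Operations
import Mathlib.RingTheory.Ideal.Maps
import Mathlib.RingTheory.Ideal.Quotient.Basic
import Mathlib.GroupTheory.GroupAction.Quotient
import Mathlib.GroupTheory.Coset.Card
import Mathlib.Algebra.BigOperators.Group.Finset.Basic

set_option autoImplicit false
universe u v

namespace Groth.Agent.H64

open scoped BigOperators

section

variable {B : Type u} [CommRing B] {Γ : Type v} [Group Γ] [MulSemiringAction Γ B]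

/-- the decomposition group of an ideal, written elementwise -/
def decompGroup (Γ : Type v) [Group Γ] [MulSemiringAction Γ B] (P : Ideal B) : Subgroup Γ where
  carrier := {σ | ∀ y : B, y ∈ P ↔ σ • y ∈ P}
  one_mem' := by intro y; simp
  mul_mem' := by
    intro σ τ hσ hτ y
    rw [mul_smul]
    exact (hτ y).trans (hσ (τ • y))
  inv_mem' := by
    intro σ hσ y
    have := hσ (σ⁻¹ • y)
    rw [smul_inv_smul] at this
    exact this.symm

theorem mem_decompGroup (P : Ideal B) (σ : Γ) :
    σ ∈ decompGroup Γ P ↔ ∀ y : B, y ∈ P ↔ σ • y ∈ P := Iff.rfl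

/-- the conjugate ideal `σ⁻¹ P = {y | σ y ∈ P}` -/
def conjIdeal (P : Ideal B) (σ : Γ) : Ideal B := P.comap (MulSemiringAction.toRingHom Γ B σ)

theorem mem_conjIdeal (P : Ideal B) (σ : Γ) (y : B) : y ∈ conjIdeal P σ ↔ σ • y ∈ P := Iff.rfl

theorem conjIdeal_isMaximal (P : Ideal B) [P.IsMaximal] (σ : Γ) : (conjIdeal P σ).IsMaximal := by
  apply Ideal.comap_isMaximal_of_surjective
  intro y
  exact ⟨σ⁻¹ • y, by simp⟩

theorem conjIdeal_eq_iff (P : Ideal B) (σ : Γ) : conjIdeal P σ = P ↔ σ ∈ decompGroup Γ P := by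
  constructor
  · intro h y
    rw [← mem_conjIdeal, h]
  · intro h
    ext y
    rw [mem_conjIdeal]
    exact (h y).symm

end

theorem exists_invariant_sub_mem
    (B : Type u) [CommRing B] (Γ : Type v) [Group Γ] [Finite Γ] [MulSemiringAction Γ B]
    (P : Ideal B) [P.IsMaximal] (x : B)
    (hx : ∀ γ : Γ, (∀ y : B, y ∈ P ↔ γ • y ∈ P) → γ • x = x) :
    ∃ c : B, (∀ γ : Γ, γ • c = c) ∧ x - c ∈ P := by
  classical
  cases nonempty_fintype Γ
  set H : Subgroup Γ := decompGroup Γ P with hH
  -- step 1: an element e with e - 1 ∈ P and e in all other conjugates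
  have hcop : P ⊔ ⨅ σ ∈ (Finset.univ.filter (fun σ : Γ => σ ∉ H)), conjIdeal P σ = ⊤ := by
    apply Ideal.sup_iInf_eq_top
    intro σ hσ
    rw [Finset.mem_filter] at hσ
    apply Ideal.IsMaximal.coprime_of_ne ‹P.IsMaximal› (conjIdeal_isMaximal P σ)
    intro h
    exact hσ.2 ((conjIdeal_eq_iff P σ).1 h.symm)
  obtain ⟨p, hp, e, he, hpe⟩ := Submodule.mem_sup.1 ((Ideal.eq_top_iff_one _).1 hcop)
  have he' : ∀ σ : Γ, σ ∉ H → σ • e ∈ P := by
    intro σ hσ
    have := (Submodule.mem_iInf _).1 he σ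
    have := (Submodule.mem_iInf _).1 this (by simp [hσ])
    exact this
  have he1 : e - 1 ∈ P := by
    have : e - 1 = -p := by rw [← hpe]; ring
    rw [this]; exact P.neg_mem hp
  -- step 2: make it H-invariant
  set e' : B := ∏ τ : H, (τ : Γ) • e with he'def
  have he'inv : ∀ h : Γ, h ∈ H → h • e' = e' := by
    intro h hh
    rw [he'def, Finset.smul_prod']
    apply Fintype.prod_equiv (Equiv.mulLeft (⟨h, hh⟩ : H))
    intro τ
    simp [mul_smul]
  have he'1 : e' - 1 ∈ P := by
    rw [← Ideal.Quotient.eq, map_one, he'def, map_prod]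
    apply Finset.prod_eq_one
    intro τ _
    rw [← map_one (Ideal.Quotient.mk P), Ideal.Quotient.eq]
    have h1 : (τ : Γ) • e - 1 = (τ : Γ) • (e - 1) := by simp [smul_sub]
    rw [h1]
    exact (τ.2 (e - 1)).1 he1
  have he'conj : ∀ σ : Γ, σ ∉ H → σ • e' ∈ P := by
    intro σ hσ
    rw [he'def, Finset.smul_prod']
    apply Ideal.mem_of_dvd P (Finset.dvd_prod_of_mem _ (Finset.mem_univ (1 : H)))
    simpa using he' σ hσ
  -- step 3: y = x * e'
  set y : B := x * e' with hy
  have hyinv : ∀ h : Γ, h ∈ H → h • y = y := by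
    intro h hh
    rw [hy, smul_mul', he'inv h hh, hx h hh]
  have hyx : y - x ∈ P := by
    have : y - x = x * (e' - 1) := by rw [hy]; ring
    rw [this]
    exact P.mul_mem_left _ he'1
  have hyconj : ∀ σ : Γ, σ ∉ H → σ • y ∈ P := by
    intro σ hσ
    rw [hy, smul_mul']
    exact P.mul_mem_left _ (he'conj σ hσ)
  -- step 4: trace over cosets
  let f : Γ ⧸ H → B := fun q => Quotient.liftOn' q (fun σ => σ • y) (by
    intro a b hab
    rw [QuotientGroup.leftRel_apply] at hab
    have := hyinv _ hab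
    show a • y = b • y
    rw [mul_smul] at this
    rw [← this, smul_inv_smul, this])
  have hf : ∀ σ : Γ, f (QuotientGroup.mk σ) = σ • y := fun σ => rfl
  let _ : Fintype (Γ ⧸ H) := Fintype.ofFinite _
  refine ⟨∑ q : Γ ⧸ H, f q, ?_, ?_⟩
  · intro γ
    rw [Finset.smul_sum]
    apply Fintype.sum_equiv (MulAction.toPerm γ)
    intro q
    induction q using QuotientGroup.induction_on with
    | H σ =>
      rw [hf]
      show γ • σ • y = f (γ • (QuotientGroup.mk σ))
      rw [← mul_smul]
      rfl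
  · rw [← Finset.add_sum_erase Finset.univ f (Finset.mem_univ (QuotientGroup.mk (1 : Γ)))]
    rw [hf, one_smul]
    have h2 : ∑ q ∈ Finset.univ.erase (QuotientGroup.mk (1 : Γ) : Γ ⧸ H), f q ∈ P := by
      apply Submodule.sum_mem
      intro q hq
      rw [Finset.mem_erase] at hq
      induction q using QuotientGroup.induction_on with
      | H σ =>
        rw [hf]
        apply hyconj
        intro hσ
        apply hq.1
        rw [QuotientGroup.eq]
        simpa using H.inv_mem hσ
    have : x - (y + ∑ q ∈ Finset.univ.erase (QuotientGroup.mk (1 : Γ) : Γ ⧸ H), f q) =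
        -(y - x) - ∑ q ∈ Finset.univ.erase (QuotientGroup.mk (1 : Γ) : Γ ⧸ H), f q := by ring
    rw [this]
    exact P.sub_mem (P.neg_mem hyx) h2

end Groth.Agent.H64
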