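import Groth.Agent.H64.Stk.LocEss
import Groth.Agent.H64.Stk.FpStack
import Groth.Agent.H32.Fp
import Groth.Agent.H32.Diag

set_option autoImplicit false
open CategoryTheory CategoryTheory.Limits
universe v₄ u₄ v₃ u₃ v₂ u₂ v u

namespace Groth.Agent.H64

open Groth.Agent.H32

variable {C : Type u} [Category.{v} C]
variable {𝒳 : BasedCategory.{v₂, u₂} C} {𝒳' : BasedCategory.{v₃, u₃} C} {𝒴 : BasedCategory.{v₄, u₄} C}
variable (i : 𝒳 ⥤ᵇ 𝒳') (g : 𝒳' ⥤ᵇ 𝒴)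

/-- the functor `𝒳 ×_𝒴 𝒳 ⟶ 𝒳' ×_𝒴 𝒳'` induced by `i` on both factors -/
abbrev diagSqΦ : FibCat.fp (BasedFunctor.comp i g) (BasedFunctor.comp i g) ⥤ᵇ FibCat.fp g g :=
  FibCat.fpLift (BasedFunctor.comp (FibCat.fpFst (BasedFunctor.comp i g) (BasedFunctor.comp i g)) i)
    (BasedFunctor.comp (FibCat.fpSnd (BasedFunctor.comp i g) (BasedFunctor.comp i g)) i)
    (FibCat.fpIso (BasedFunctor.comp i g) (BasedFunctor.comp i g))

/-- the comparison functor of the diagonal square -/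
abbrev diagSqΛ : 𝒳 ⥤ᵇ FibCat.fp (diagSqΦ i g) (FibCat.diag g) :=
  FibCat.fpLift (F := diagSqΦ i g) (G := FibCat.diag g) (FibCat.diag (BasedFunctor.comp i g)) i
    (Iso.refl _)

theorem diagSqΛ_faithful [i.toFunctor.Faithful] : (diagSqΛ i g).toFunctor.Faithful := by
  refine ⟨fun {x y} φ ψ h => ?_⟩
  apply i.toFunctor.map_injective
  have := congrArg (fun m => m.hom.snd) h
  exact this

theorem diagSqΛ_full [i.toFunctor.Faithful] : (diagSqΛ i g).toFunctor.Full := by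
  refine ⟨fun {x y} m => ?_⟩
  -- `m.hom.fst : (x,x,id) ⟶ (y,y,id)`, `m.hom.snd : i x ⟶ i y`
  have w := m.hom.w
  have w1 : i.map m.hom.fst.hom.fst = m.hom.snd := by
    have := congrArg (fun t => t.hom.fst) w
    exact (Category.comp_id _).symm.trans (this.trans (Category.id_comp _))
  have w2 : i.map m.hom.fst.hom.snd = m.hom.snd := by
    have := congrArg (fun t => t.hom.snd) w
    exact (Category.comp_id _).symm.trans (this.trans (Category.id_comp _))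
  have e12 : m.hom.fst.hom.fst = m.hom.fst.hom.snd := i.toFunctor.map_injective (w1.trans w2.symm)
  refine ⟨m.hom.fst.hom.fst, ?_⟩
  apply fp_hom_ext
  · apply fp_hom_ext
    · rfl
    · exact e12
  · exact w1

theorem diagSq_aux {D : Type*} [Category D] {a b c : D} (ida : a ⟶ a) (hid : ida = 𝟙 a) (α : a ⟶ b)
    (t₁ : a ⟶ c) (t₂ : b ⟶ c) (t₂i : c ⟶ b) (gb : a ⟶ b) (hgb : gb = t₁ ≫ t₂i)
    (h : t₂ ≫ t₂i = 𝟙 b) (hw : t₁ = α ≫ t₂) : ida ≫ α = 𝟙 a ≫ gb := by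
  subst hid hgb hw; simp [h]

theorem lift_id_of_map_eq {𝒜 : Type*} [Category 𝒜] (p : 𝒜 ⥤ C) {a b : 𝒜} (φ : a ⟶ b)
    (hab : p.obj a = p.obj b) (h : p.map φ = eqToHom hab) : p.IsHomLift (𝟙 (p.obj b)) φ := by
  apply IsHomLift.of_fac' p _ φ hab rfl
  rw [h]; simp

theorem diagSqΛ_essSurj [i.toFunctor.Full] [i.toFunctor.Faithful]
    (h𝒫 : FibCat.IsFibGrpd (FibCat.fp (diagSqΦ i g) (FibCat.diag g)).p)
    (η : (FibCat.fp (diagSqΦ i g) (FibCat.diag g)).obj) :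
    ∃ (ξ : 𝒳.obj) (e : (diagSqΛ i g).obj ξ ≅ η),
      (FibCat.fp (diagSqΦ i g) (FibCat.diag g)).p.IsHomLift
        (𝟙 ((FibCat.fp (diagSqΦ i g) (FibCat.diag g)).p.obj η)) e.hom := by
  let x₁ : 𝒳.obj := η.obj.fst.obj.fst
  let x₂ : 𝒳.obj := η.obj.fst.obj.snd
  let x' : 𝒳'.obj := η.obj.snd
  let θ₁ : i.obj x₁ ⟶ x' := η.obj.iso.hom.hom.fst
  let θ₂ : i.obj x₂ ⟶ x' := η.obj.iso.hom.hom.snd
  let θ₂i : x' ⟶ i.obj x₂ := η.obj.iso.inv.hom.snd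
  have hθ₂ : θ₂ ≫ θ₂i = 𝟙 _ := by
    have := congrArg (fun t => t.hom.snd) η.obj.iso.hom_inv_id
    exact this
  have hθ₂' : θ₂i ≫ θ₂ = 𝟙 _ := by
    have := congrArg (fun t => t.hom.snd) η.obj.iso.inv_hom_id
    exact this
  let β : x₁ ⟶ x₂ := i.toFunctor.preimage (θ₁ ≫ θ₂i)
  have hβ : i.map β = θ₁ ≫ θ₂i := i.toFunctor.map_preimage _
  have hw : g.map θ₁ ≫ 𝟙 _ = η.obj.fst.obj.iso.hom ≫ g.map θ₂ := η.obj.iso.hom.hom.w
  rw [Category.comp_id] at hw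
  let m : (FibCat.diag (BasedFunctor.comp i g)).obj x₁ ⟶ η.obj.fst :=
    fpHomMk (BasedFunctor.comp i g) (BasedFunctor.comp i g)
      (z := (FibCat.diag (BasedFunctor.comp i g)).obj x₁) (z' := η.obj.fst) (𝟙 x₁) β (by
      show g.map (i.map (𝟙 x₁)) ≫ η.obj.fst.obj.iso.hom = 𝟙 _ ≫ g.map (i.map β)
      have e2 : g.map θ₂ ≫ g.map θ₂i = 𝟙 _ := by rw [← g.map_comp, hθ₂, g.map_id]
      exact diagSq_aux _ (by rw [i.map_id, g.map_id]) _ (g.map θ₁) (g.map θ₂) (g.map θ₂i) _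
        (by rw [hβ, g.map_comp]) e2 hw)
  let μ : (diagSqΛ i g).obj x₁ ⟶ η :=
    fpHomMk (diagSqΦ i g) (FibCat.diag g) (z := (diagSqΛ i g).obj x₁) (z' := η) m θ₁ (by
      apply fp_hom_ext
      · show i.map (𝟙 x₁) ≫ θ₁ = 𝟙 _ ≫ θ₁
        simp
      · show i.map β ≫ θ₂ = 𝟙 _ ≫ θ₁
        rw [hβ, Category.assoc, hθ₂']
        simp)
  have hμ : (FibCat.fp (diagSqΦ i g) (FibCat.diag g)).p.IsHomLift
      (𝟙 ((FibCat.fp (diagSqΦ i g) (FibCat.diag g)).p.obj η)) μ := by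
    exact lift_id_of_map_eq _ μ rfl (𝒳.p.map_id x₁)
  have hiso : IsIso μ := isIso_of_lift_id _ h𝒫 hμ
  exact ⟨x₁, @asIso _ _ _ _ μ hiso, hμ⟩

theorem isEquivOver_diagSqΛ [i.toFunctor.Full] [i.toFunctor.Faithful]
    (h𝒳 : FibCat.IsFibGrpd 𝒳.p) (h𝒳' : FibCat.IsFibGrpd 𝒳'.p) (h𝒴 : FibCat.IsFibGrpd 𝒴.p) :
    FibCat.IsEquivOver (diagSqΛ i g) := by
  have h1 : FibCat.IsFibGrpd (FibCat.fp (BasedFunctor.comp i g) (BasedFunctor.comp i g)).p :=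
    isFibGrpd_fp _ _ h𝒳 h𝒳 h𝒴
  have h2 : FibCat.IsFibGrpd (FibCat.fp g g).p := isFibGrpd_fp _ _ h𝒳' h𝒳' h𝒴
  have h𝒫 : FibCat.IsFibGrpd (FibCat.fp (diagSqΦ i g) (FibCat.diag g)).p :=
    isFibGrpd_fp _ _ h1 h𝒳' h2
  have := diagSqΛ_faithful i g
  have := diagSqΛ_full i g
  exact isEquivOver_of_fullyFaithful_of_fiberwise_essSurj (diagSqΛ i g)
    (fun η => diagSqΛ_essSurj i g h𝒫 η)

end Groth.Agent.H64
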