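import Groth.Agent.H64.Stk.FpPaste
import Groth.Agent.H64.DiagSq

set_option autoImplicit false
open CategoryTheory CategoryTheory.Limits
universe v₄ u₄ v₃ u₃ v₂ u₂ v u

namespace Groth.Agent.H64

open Groth.Agent.H32

variable {C : Type u} [Category.{v} C]
variable {𝒳 : BasedCategory.{v₂, u₂} C} {𝒴 : BasedCategory.{v₃, u₃} C} {𝒴' : BasedCategory.{v₄, u₄} C}
variable (f : 𝒳 ⥤ᵇ 𝒴) (g : 𝒴' ⥤ᵇ 𝒴)

/-- the functor `𝒫 ×_{𝒴'} 𝒫 ⟶ 𝒳 ×_𝒴 𝒳` for `𝒫 = 𝒴' ×_𝒴 𝒳` -/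
def diagBCq : FibCat.fp (FibCat.fpFst g f) (FibCat.fpFst g f) ⥤ᵇ FibCat.fp f f :=
  fpMap f f (FibCat.fpFst g f) (FibCat.fpFst g f) (FibCat.fpSnd g f) (FibCat.fpSnd g f) g
    (FibCat.fpIso g f) (FibCat.fpIso g f)

theorem diagBCq_obj_iso_hom (w : (FibCat.fp (FibCat.fpFst g f) (FibCat.fpFst g f)).obj) :
    ((diagBCq f g).obj w).obj.iso.hom =
      w.obj.fst.obj.iso.inv ≫ g.map w.obj.iso.hom ≫ w.obj.snd.obj.iso.hom := rfl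

theorem diagBC_aux {D : Type*} [Category D] {A B : D} (φi : B ⟶ A) (φ : A ⟶ B)
    (h : φi ≫ φ = 𝟙 B) (g1 : A ⟶ A) (hg1 : g1 = 𝟙 A) (f1 : B ⟶ B) (hf1 : f1 = 𝟙 B) :
    f1 ≫ 𝟙 B = (φi ≫ g1 ≫ φ) ≫ f1 := by
  subst hg1 hf1
  simp [h]

/-- the 2-isomorphism of the square -/
def diagBCIso : BasedFunctor.comp (FibCat.diag (FibCat.fpFst g f)) (diagBCq f g) ≅
    BasedFunctor.comp (FibCat.fpSnd g f) (FibCat.diag f) :=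
  mkBIso
    (fun p => fpIsoMk f f (z := (diagBCq f g).obj ((FibCat.diag (FibCat.fpFst g f)).obj p))
      (z' := (FibCat.diag f).obj p.obj.snd) (Iso.refl _) (Iso.refl _) (by
        show f.map (𝟙 p.obj.snd) ≫ 𝟙 _ =
          (p.obj.iso.inv ≫ g.map (𝟙 p.obj.fst) ≫ p.obj.iso.hom) ≫ f.map (𝟙 p.obj.snd)
        exact diagBC_aux _ _ p.obj.iso.inv_hom_id _ (g.map_id _) _ (f.map_id _)))
    (fun {p p'} m => by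
      apply fp_hom_ext
      · show m.hom.snd ≫ 𝟙 _ = 𝟙 _ ≫ m.hom.snd
        simp
      · show m.hom.snd ≫ 𝟙 _ = 𝟙 _ ≫ m.hom.snd
        simp)
    (fun p => by
      have : 𝒳.p.IsHomLift (𝟙 ((FibCat.fp g f).p.obj p)) (𝟙 p.obj.snd) :=
        IsHomLift.id (fp_snd_obj_eq g f p)
      exact @fp_isHomLift_of_fst _ _ _ _ _ f f _ _ _ _ _ (𝟙 ((FibCat.fp g f).p.obj p)) this)

/-- the comparison functor `𝒫 ⟶ (𝒫 ×_{𝒴'} 𝒫) ×_{𝒳 ×_𝒴 𝒳} 𝒳` -/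
def diagBCΛ : FibCat.fp g f ⥤ᵇ FibCat.fp (diagBCq f g) (FibCat.diag f) :=
  FibCat.fpLift (F := diagBCq f g) (G := FibCat.diag f) (FibCat.diag (FibCat.fpFst g f))
    (FibCat.fpSnd g f) (diagBCIso f g)

theorem diagBCΛ_comp_fpFst :
    BasedFunctor.comp (diagBCΛ f g) (FibCat.fpFst (diagBCq f g) (FibCat.diag f)) =
      FibCat.diag (FibCat.fpFst g f) := rfl

theorem diagBCΛ_faithful : (diagBCΛ f g).toFunctor.Faithful := by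
  refine ⟨fun {p p'} m m' h => ?_⟩
  exact congrArg (fun t => t.hom.fst.hom.fst) h

theorem diagBCΛ_full : (diagBCΛ f g).toFunctor.Full := by
  refine ⟨fun {p p'} n => ?_⟩
  let n₁ : p ⟶ p' := n.hom.fst.hom.fst
  let n₂ : p ⟶ p' := n.hom.fst.hom.snd
  let n₃ : p.obj.snd ⟶ p'.obj.snd := n.hom.snd
  have hw1 : n₁.hom.fst ≫ 𝟙 _ = 𝟙 _ ≫ n₂.hom.fst := n.hom.fst.hom.w
  have hw := n.hom.w
  have hw2 : n₁.hom.snd ≫ 𝟙 _ = 𝟙 _ ≫ n₃ := congrArg (fun t => t.hom.fst) hw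
  have hw3 : n₂.hom.snd ≫ 𝟙 _ = 𝟙 _ ≫ n₃ := congrArg (fun t => t.hom.snd) hw
  rw [Category.comp_id, Category.id_comp] at hw1 hw2 hw3
  have h12 : n₁ = n₂ := fp_hom_ext g f hw1 (hw2.trans hw3.symm)
  refine ⟨n₁, ?_⟩
  apply fp_hom_ext
  · apply fp_hom_ext
    · rfl
    · exact h12
  · exact hw2

theorem diagBC_aux2 {D : Type*} [Category D] {A₁ B₁ A₂ B₂ X : D} (φ₁ : A₁ ≅ B₁) (gθ : A₁ ⟶ A₂)
    (φ₂ : A₂ ⟶ B₂) (fχ₁ : B₁ ⟶ X) (fχ₂ : B₂ ⟶ X) (fχ₂i : X ⟶ B₂) (h2 : fχ₂ ≫ fχ₂i = 𝟙 B₂)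
    (hw : fχ₁ ≫ 𝟙 X = (φ₁.inv ≫ gθ ≫ φ₂) ≫ fχ₂) : gθ ≫ φ₂ = φ₁.hom ≫ fχ₁ ≫ fχ₂i := by
  rw [Category.comp_id] at hw
  rw [hw]
  simp [h2]

theorem diagBCΛ_essSurj (h𝒫 : FibCat.IsFibGrpd (FibCat.fp (diagBCq f g) (FibCat.diag f)).p)
    (η : (FibCat.fp (diagBCq f g) (FibCat.diag f)).obj) :
    ∃ (ξ : (FibCat.fp g f).obj) (e : (diagBCΛ f g).obj ξ ≅ η),
      (FibCat.fp (diagBCq f g) (FibCat.diag f)).p.IsHomLift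
        (𝟙 ((FibCat.fp (diagBCq f g) (FibCat.diag f)).p.obj η)) e.hom := by
  let p₁ : (FibCat.fp g f).obj := η.obj.fst.obj.fst
  let p₂ : (FibCat.fp g f).obj := η.obj.fst.obj.snd
  let θ : p₁.obj.fst ≅ p₂.obj.fst := η.obj.fst.obj.iso
  let x : 𝒳.obj := η.obj.snd
  let χ₁ : p₁.obj.snd ⟶ x := η.obj.iso.hom.hom.fst
  let χ₂ : p₂.obj.snd ⟶ x := η.obj.iso.hom.hom.snd
  let χ₂i : x ⟶ p₂.obj.snd := η.obj.iso.inv.hom.snd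
  have hχ₂ : χ₂ ≫ χ₂i = 𝟙 _ := congrArg (fun t => t.hom.snd) η.obj.iso.hom_inv_id
  have hχ₂' : χ₂i ≫ χ₂ = 𝟙 _ := congrArg (fun t => t.hom.snd) η.obj.iso.inv_hom_id
  have hw : f.map χ₁ ≫ 𝟙 _ =
      (p₁.obj.iso.inv ≫ g.map θ.hom ≫ p₂.obj.iso.hom) ≫ f.map χ₂ := η.obj.iso.hom.hom.w
  let μ : p₁ ⟶ p₂ := fpHomMk g f θ.hom (χ₁ ≫ χ₂i) (by
    rw [f.map_comp]
    exact diagBC_aux2 p₁.obj.iso (g.map θ.hom) p₂.obj.iso.hom (f.map χ₁) (f.map χ₂) (f.map χ₂i)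
      (by rw [← f.map_comp, hχ₂, f.map_id]) hw)
  let m : (FibCat.diag (FibCat.fpFst g f)).obj p₁ ⟶ η.obj.fst :=
    fpHomMk (FibCat.fpFst g f) (FibCat.fpFst g f)
      (z := (FibCat.diag (FibCat.fpFst g f)).obj p₁) (z' := η.obj.fst) (𝟙 p₁) μ (by
      show 𝟙 _ ≫ θ.hom = 𝟙 _ ≫ θ.hom
      rfl)
  let ν : (diagBCΛ f g).obj p₁ ⟶ η :=
    fpHomMk (diagBCq f g) (FibCat.diag f) (z := (diagBCΛ f g).obj p₁) (z' := η) m χ₁ (by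
      apply fp_hom_ext
      · show 𝟙 _ ≫ χ₁ = 𝟙 _ ≫ χ₁
        rfl
      · show (χ₁ ≫ χ₂i) ≫ χ₂ = 𝟙 _ ≫ χ₁
        rw [Category.assoc, hχ₂']
        simp)
  have hν : (FibCat.fp (diagBCq f g) (FibCat.diag f)).p.IsHomLift
      (𝟙 ((FibCat.fp (diagBCq f g) (FibCat.diag f)).p.obj η)) ν :=
    lift_id_of_map_eq _ ν rfl (𝒴'.p.map_id _)
  have hiso : IsIso ν := isIso_of_lift_id _ h𝒫 hν
  exact ⟨p₁, @asIso _ _ _ _ ν hiso, hν⟩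

/-- the diagonal of a base change is the base change of the diagonal -/
theorem isEquivOver_diagBCΛ (h𝒳 : FibCat.IsFibGrpd 𝒳.p) (h𝒴 : FibCat.IsFibGrpd 𝒴.p)
    (h𝒴' : FibCat.IsFibGrpd 𝒴'.p) : FibCat.IsEquivOver (diagBCΛ f g) := by
  have h1 : FibCat.IsFibGrpd (FibCat.fp g f).p := isFibGrpd_fp _ _ h𝒴' h𝒳 h𝒴
  have h2 : FibCat.IsFibGrpd (FibCat.fp (FibCat.fpFst g f) (FibCat.fpFst g f)).p :=
    isFibGrpd_fp _ _ h1 h1 h𝒴'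
  have h3 : FibCat.IsFibGrpd (FibCat.fp f f).p := isFibGrpd_fp _ _ h𝒳 h𝒳 h𝒴
  have h𝒫 : FibCat.IsFibGrpd (FibCat.fp (diagBCq f g) (FibCat.diag f)).p :=
    isFibGrpd_fp _ _ h2 h𝒳 h3
  have := diagBCΛ_faithful f g
  have := diagBCΛ_full f g
  exact isEquivOver_of_fullyFaithful_of_fiberwise_essSurj (diagBCΛ f g)
    (fun η => diagBCΛ_essSurj f g h𝒫 η)

end Groth.Agent.H64
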