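import Groth.Agent.H64.FPtRel
import Groth.Agent.H64.Stk.FpStack

set_option autoImplicit false
universe w v u
open CategoryTheory CategoryTheory.Limits AlgebraicGeometry

namespace Groth.Agent.H64

open AlgSt

variable {S : Scheme.{u}} {𝒳 𝒴 𝒵 : BasedCategory.{v, w} (Over S)}

/-- pull a field-valued point back along a morphism of the base: for `c : r.obj ⟶ g (p.obj)` in `𝒴`
there is a point `t` of `𝒵` over `Spec r.K` with a morphism to `p` and an isomorphism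
`g t ≅ r.obj` over the identity. -/
theorem exists_pullback_fpt (h𝒵 : FibCat.IsFibGrpd 𝒵.p) (h𝒴 : FibCat.IsFibGrpd 𝒴.p)
    (g : 𝒵 ⥤ᵇ 𝒴) (p : FPt 𝒵) (r : FPt 𝒴) (c : r.obj ⟶ g.obj p.obj) :
    ∃ (t : 𝒵.obj) (_ : t ⟶ p.obj) (_ : 𝒵.p.obj t = Over.mk r.str) (e : g.obj t ≅ r.obj),
      𝒴.p.IsHomLift (𝟙 (Over.mk r.str)) e.hom := by
  -- base morphism of `c`
  have hgp : 𝒴.p.obj (g.obj p.obj) = 𝒵.p.obj p.obj := g.w_obj p.obj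
  let β : Over.mk r.str ⟶ 𝒵.p.obj p.obj := eqToHom r.lies.symm ≫ 𝒴.p.map c ≫ eqToHom hgp
  obtain ⟨t, ψ, hψ⟩ := h𝒵.exists_lift (x := p.obj) β
  have ht : 𝒵.p.obj t = Over.mk r.str := lift_domain_eq 𝒵.p hψ
  have hgψ : 𝒴.p.IsHomLift β (g.map ψ) := (BasedFunctor.isHomLift_iff g _ _).mpr hψ
  have hc : 𝒴.p.IsHomLift β c := by
    have h1 : 𝒴.p.IsHomLift (𝒴.p.map c) c := inferInstance
    have h2 := IsHomLift.fac' 𝒴.p (𝒴.p.map c) c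
    apply IsHomLift.of_fac' 𝒴.p β c r.lies hgp
    simp [β]
  have hsg : 𝒴.p.IsStronglyCartesian β (g.map ψ) := cart_of_fibGrpd 𝒴.p h𝒴 hgψ
  have hsc : 𝒴.p.IsStronglyCartesian β c := cart_of_fibGrpd 𝒴.p h𝒴 hc
  obtain ⟨χ, hχ, -⟩ := cart_lift_id 𝒴.p hsc (g.map ψ) hgψ
  have hiso : IsIso χ := isIso_of_lift_id 𝒴.p h𝒴 hχ
  exact ⟨t, ψ, ht, @asIso _ _ _ _ χ hiso, hχ⟩

theorem exists_points_fp_of_map_eq (h𝒳 : FibCat.IsFibGrpd 𝒳.p) (h𝒴 : FibCat.IsFibGrpd 𝒴.p)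
    (h𝒵 : FibCat.IsFibGrpd 𝒵.p) (f : 𝒳 ⥤ᵇ 𝒴) (g : 𝒵 ⥤ᵇ 𝒴)
    (z : Points 𝒵) (x : Points 𝒳) (h : Points.map g z = Points.map f x) :
    ∃ w : Points (FibCat.fp g f),
      Points.map (FibCat.fpFst g f) w = z ∧ Points.map (FibCat.fpSnd g f) w = x := by
  obtain ⟨p, rfl⟩ := Points.mk_surjective z
  obtain ⟨p', rfl⟩ := Points.mk_surjective x
  have hrel : FPt.Rel (p.map g) (p'.map f) := by
    have := (fptRel_equivalence h𝒴).eqvGen_iff.mp (Quot.eqvGen_exact h)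
    exact this
  obtain ⟨r, c, c', -⟩ := hrel
  obtain ⟨t, ψ, ht, e, he⟩ := exists_pullback_fpt h𝒵 h𝒴 g p r c
  obtain ⟨t', ψ', ht', e', he'⟩ := exists_pullback_fpt h𝒳 h𝒴 f p' r c'
  have he'inv : 𝒴.p.IsHomLift (𝟙 (Over.mk r.str)) e'.inv := lift_inv_of_iso 𝒴.p e' he'
  have hθ : 𝒴.p.IsHomLift (𝟙 (𝒵.p.obj t)) (e ≪≫ e'.symm).hom :=
    lift_id_congr 𝒴.p (lift_id_comp_id 𝒴.p he he'inv) ht.symm
  let ζ : (FibCat.fp g f).obj := ⟨⟨t, t', e ≪≫ e'.symm⟩, hθ⟩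
  let ρ : FPt (FibCat.fp g f) := { K := r.K, str := r.str, obj := ζ, lies := ht }
  refine ⟨Points.mk ρ, ?_, ?_⟩
  · apply Points.sound
    exact ⟨ρ.map (FibCat.fpFst g f), 𝟙 _, ψ, trivial⟩
  · apply Points.sound
    exact ⟨ρ.map (FibCat.fpSnd g f), 𝟙 _, ψ', trivial⟩

theorem isSurjective_fpFst (h𝒳 : FibCat.IsFibGrpd 𝒳.p) (h𝒴 : FibCat.IsFibGrpd 𝒴.p)
    (h𝒵 : FibCat.IsFibGrpd 𝒵.p) (f : 𝒳 ⥤ᵇ 𝒴) (g : 𝒵 ⥤ᵇ 𝒴) (hf : IsSurjective f) :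
    IsSurjective (FibCat.fpFst g f) := by
  intro z
  obtain ⟨x, hx⟩ := hf (Points.map g z)
  obtain ⟨w, hw, -⟩ := exists_points_fp_of_map_eq h𝒳 h𝒴 h𝒵 f g z x hx.symm
  exact ⟨w, hw⟩

theorem points_map_injective_of_full (h𝒳 : FibCat.IsFibGrpd 𝒳.p) (h𝒴 : FibCat.IsFibGrpd 𝒴.p)
    (j : 𝒳 ⥤ᵇ 𝒴) [j.toFunctor.Full] : Function.Injective (Points.map j) := by
  intro x₁ x₂ h
  obtain ⟨p₁, rfl⟩ := Points.mk_surjective x₁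
  obtain ⟨p₂, rfl⟩ := Points.mk_surjective x₂
  have hrel : FPt.Rel (p₁.map j) (p₂.map j) :=
    (fptRel_equivalence h𝒴).eqvGen_iff.mp (Quot.eqvGen_exact h)
  obtain ⟨r, c, c', -⟩ := hrel
  obtain ⟨t, ψ, ht, e, -⟩ := exists_pullback_fpt h𝒳 h𝒴 j p₁ r c
  obtain ⟨t', ψ', -, e', -⟩ := exists_pullback_fpt h𝒳 h𝒴 j p₂ r c'
  let m : t ⟶ t' := j.toFunctor.preimage (e.hom ≫ e'.inv)
  let ρ : FPt 𝒳 := { K := r.K, str := r.str, obj := t, lies := ht }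
  apply Points.sound
  exact ⟨ρ, ψ, m ≫ ψ', trivial⟩

end Groth.Agent.H64
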