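import Groth.Prelude.Def_AlgSt4
import Groth.Agent.H64.Stk.Lift

set_option autoImplicit false
universe w v u
open CategoryTheory CategoryTheory.Limits AlgebraicGeometry

namespace Groth.Agent.H64

open AlgSt

variable {S : Scheme.{u}} {𝒳 : BasedCategory.{v, w} (Over S)}

theorem fptRel_refl (p : FPt 𝒳) : FPt.Rel p p := ⟨p, 𝟙 _, 𝟙 _, trivial⟩

theorem fptRel_symm {p q : FPt 𝒳} (h : FPt.Rel p q) : FPt.Rel q p := by
  obtain ⟨r, a, b, -⟩ := h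
  exact ⟨r, b, a, trivial⟩

/-- the morphism of `Over S` under a morphism between the objects of two field-valued points -/
noncomputable def fptBase {p q : FPt 𝒳} (a : p.obj ⟶ q.obj) : Over.mk p.str ⟶ Over.mk q.str :=
  eqToHom p.lies.symm ≫ 𝒳.p.map a ≫ eqToHom q.lies

theorem fptRel_trans (h𝒳 : FibCat.IsFibGrpd 𝒳.p) {p q s : FPt 𝒳} (h1 : FPt.Rel p q)
    (h2 : FPt.Rel q s) : FPt.Rel p s := by
  obtain ⟨r, a, b, -⟩ := h1
  obtain ⟨r', a', b', -⟩ := h2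
  let α : Over.mk r.str ⟶ Over.mk q.str := fptBase b
  let α' : Over.mk r'.str ⟶ Over.mk q.str := fptBase a'
  let g₁ : Spec (CommRingCat.of r.K) ⟶ Spec (CommRingCat.of q.K) := α.left
  let g₂ : Spec (CommRingCat.of r'.K) ⟶ Spec (CommRingCat.of q.K) := α'.left
  have hg₁ : g₁ ≫ q.str = r.str := Over.w α
  have hg₂ : g₂ ≫ q.str = r'.str := Over.w α'
  have hne₁ : Nonempty ↥(Spec (CommRingCat.of r.K)) :=
    ⟨(default : PrimeSpectrum r.K)⟩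
  have hne₂ : Nonempty ↥(Spec (CommRingCat.of r'.K)) :=
    ⟨(default : PrimeSpectrum r'.K)⟩
  have hss : Subsingleton ↥(Spec (CommRingCat.of q.K)) :=
    (inferInstance : Subsingleton (PrimeSpectrum q.K))
  have hneP : Nonempty ↥(pullback g₁ g₂) := inferInstance
  obtain ⟨z⟩ := hneP
  let P := pullback g₁ g₂
  let strM : Spec (CommRingCat.of ↥(P.residueField z)) ⟶ S :=
    P.fromSpecResidueField z ≫ pullback.fst g₁ g₂ ≫ r.str
  let β₁ : Over.mk strM ⟶ Over.mk r.str :=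
    Over.homMk (P.fromSpecResidueField z ≫ pullback.fst g₁ g₂) (by simp [strM])
  let β₂ : Over.mk strM ⟶ Over.mk r'.str :=
    Over.homMk (P.fromSpecResidueField z ≫ pullback.snd g₁ g₂) (by
      simp only [Over.mk_hom, strM, Category.assoc]
      rw [← hg₂, ← hg₁, ← Category.assoc (pullback.snd g₁ g₂), ← pullback.condition,
        Category.assoc])
  have hβ : β₁ ≫ α = β₂ ≫ α' := by
    apply Over.OverMorphism.ext
    simp only [Over.comp_left, β₁, β₂, Over.homMk_left, Category.assoc]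
    exact congrArg (P.fromSpecResidueField z ≫ ·) pullback.condition
  -- lifts
  obtain ⟨t, ψ, hψ⟩ := h𝒳.exists_lift (x := r.obj) (β₁ ≫ eqToHom r.lies.symm)
  obtain ⟨t', ψ', hψ'⟩ := h𝒳.exists_lift (x := r'.obj) (β₂ ≫ eqToHom r'.lies.symm)
  have hb : 𝒳.p.IsHomLift (𝒳.p.map b) b := inferInstance
  have ha' : 𝒳.p.IsHomLift (𝒳.p.map a') a' := inferInstance
  have hψb : 𝒳.p.IsHomLift ((β₁ ≫ eqToHom r.lies.symm) ≫ 𝒳.p.map b) (ψ ≫ b) := lift_comp 𝒳.p hψ hb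
  have hψa' : 𝒳.p.IsHomLift ((β₂ ≫ eqToHom r'.lies.symm) ≫ 𝒳.p.map a') (ψ' ≫ a') :=
    lift_comp 𝒳.p hψ' ha'
  have hsc : 𝒳.p.IsStronglyCartesian ((β₂ ≫ eqToHom r'.lies.symm) ≫ 𝒳.p.map a') (ψ' ≫ a') :=
    cart_of_fibGrpd 𝒳.p h𝒳 hψa'
  have heq : (β₁ ≫ eqToHom r.lies.symm) ≫ 𝒳.p.map b = (β₂ ≫ eqToHom r'.lies.symm) ≫ 𝒳.p.map a' := by
    have h1 : (β₁ ≫ eqToHom r.lies.symm) ≫ 𝒳.p.map b = (β₁ ≫ α) ≫ eqToHom q.lies.symm := by
      simp [α, fptBase]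
    have h2 : (β₂ ≫ eqToHom r'.lies.symm) ≫ 𝒳.p.map a' = (β₂ ≫ α') ≫ eqToHom q.lies.symm := by
      simp [α', fptBase]
    rw [h1, h2, hβ]
  have hψb' : 𝒳.p.IsHomLift ((β₂ ≫ eqToHom r'.lies.symm) ≫ 𝒳.p.map a') (ψ ≫ b) :=
    lift_of_eq 𝒳.p hψb heq
  obtain ⟨χ, -, -⟩ := cart_lift_id 𝒳.p hsc (ψ ≫ b) hψb'
  have htlies : 𝒳.p.obj t = Over.mk strM := lift_domain_eq 𝒳.p hψ
  let ρ : FPt 𝒳 := { K := ↥(P.residueField z), str := strM, obj := t, lies := htlies }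
  exact ⟨ρ, ψ ≫ a, χ ≫ ψ' ≫ b', trivial⟩

theorem fptRel_equivalence (h𝒳 : FibCat.IsFibGrpd 𝒳.p) : _root_.Equivalence (@FPt.Rel S 𝒳) :=
  ⟨fptRel_refl, fptRel_symm, fptRel_trans h𝒳⟩

end Groth.Agent.H64
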