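import Mathlib

set_option autoImplicit false
open CategoryTheory CategoryTheory.Limits
universe v₁ u₁ v₂ u₂ v₃ u₃

/-! A functor with connected fibres which is surjective on morphisms is final. -/

namespace Groth.Agent.H64.FinalFib

variable {I : Type u₁} [Category.{v₁} I] {I' : Type u₂} [Category.{v₂} I'] (F : I ⥤ I')

/-- the functor from a fibre to a category of structured arrows -/
def fibToStr {d y' : I'} (β : d ⟶ y') : F.Fiber y' ⥤ StructuredArrow d F where
  obj b := StructuredArrow.mk (β ≫ eqToHom b.2.symm)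
  map {b b'} φ := StructuredArrow.homMk φ.1 (by
    have h : F.IsHomLift (𝟙 y') φ.1 := φ.2
    have := IsHomLift.fac' F (𝟙 y') φ.1
    simp only [StructuredArrow.mk_right, StructuredArrow.mk_hom_eq_self, Category.assoc]
    rw [this]
    simp)
  map_id b := by
    apply StructuredArrow.hom_ext
    rfl
  map_comp φ ψ := by
    apply StructuredArrow.hom_ext
    rfl

theorem final_of_connected_fibers
    (h1 : ∀ x' : I', IsConnected (F.Fiber x'))
    (h2 : ∀ ⦃x' y' : I'⦄ (α' : x' ⟶ y'), ∃ (x y : I) (hx : F.obj x = x') (hy : F.obj y = y')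
      (α : x ⟶ y), F.map α = eqToHom hx ≫ α' ≫ eqToHom hy.symm) : F.Final := by
  refine ⟨fun d => ?_⟩
  have hne : Nonempty (F.Fiber d) := (h1 d).is_nonempty
  obtain ⟨a₀⟩ := hne
  let A₀ : StructuredArrow d F := (fibToStr F (𝟙 d)).obj a₀
  have key : ∀ A : StructuredArrow d F, Zigzag A A₀ := by
    intro A
    obtain ⟨a, b, ha, hb, α, hα⟩ := h2 A.hom
    have hpre1 : IsPreconnected (F.Fiber (F.obj A.right)) := (h1 _).toIsPreconnected
    have hpre2 : IsPreconnected (F.Fiber d) := (h1 _).toIsPreconnected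
    -- A → Φ_{A.hom} ⟨A.right, rfl⟩
    have z1 : Zigzag A ((fibToStr F A.hom).obj ⟨A.right, rfl⟩) :=
      Zigzag.of_hom (StructuredArrow.homMk (𝟙 A.right) (by simp [fibToStr]))
    have z2 : Zigzag ((fibToStr F A.hom).obj ⟨A.right, rfl⟩) ((fibToStr F A.hom).obj ⟨b, hb⟩) :=
      zigzag_obj_of_zigzag _ (isPreconnected_zigzag _ _)
    have z3 : Zigzag ((fibToStr F (𝟙 d)).obj ⟨a, ha⟩) ((fibToStr F A.hom).obj ⟨b, hb⟩) :=
      Zigzag.of_hom (StructuredArrow.homMk α (by simp [fibToStr, hα]))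
    have z4 : Zigzag ((fibToStr F (𝟙 d)).obj ⟨a, ha⟩) A₀ :=
      zigzag_obj_of_zigzag _ (isPreconnected_zigzag _ _)
    exact (z1.trans z2).trans (z3.symm.trans z4)
  have : Nonempty (StructuredArrow d F) := ⟨A₀⟩
  exact zigzag_isConnected (fun A B => (key A).trans (key B).symm)

theorem main {C : Type u₃} [Category.{v₃} C]
    (h1 : ∀ x' : I', IsConnected (F.Fiber x'))
    (h2 : ∀ ⦃x' y' : I'⦄ (α' : x' ⟶ y'), ∃ (x y : I) (hx : F.obj x = x') (hy : F.obj y = y')
      (α : x ⟶ y), F.map α = eqToHom hx ≫ α' ≫ eqToHom hy.symm)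
    (M : I' ⥤ C) :
    (HasColimit (F ⋙ M) ↔ HasColimit M) ∧
      ∀ [HasColimit (F ⋙ M)] [HasColimit M], IsIso (colimit.pre M F) := by
  have := final_of_connected_fibers F h1 h2
  refine ⟨Functor.Final.hasColimit_comp_iff F, ?_⟩
  intro _ _
  infer_instance

end Groth.Agent.H64.FinalFib
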