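import Groth.Agent.H32.Yoneda
import Groth.Agent.H64.Stk.Rep1

set_option autoImplicit false
open CategoryTheory CategoryTheory.Limits
universe v₄ u₄ v₃ u₃ v₂ u₂ v u

namespace Groth.Agent.H64

open Groth.Agent.H32

variable {C : Type u} [Category.{v} C]

section pres
variable {𝒳 : BasedCategory.{v₂, u₂} C} {𝒴 : BasedCategory.{v₃, u₃} C}

theorem preserves_of_isFibGrpd (h : FibCat.IsFibGrpd 𝒴.p) (G : 𝒳 ⥤ᵇ 𝒴) :
    FibCat.PreservesStronglyCartesian G := by
  intro R S f a b φ hφ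
  have h1 : 𝒳.p.IsHomLift f φ := hφ.toIsHomLift
  have h2 : 𝒴.p.IsHomLift f (G.map φ) := inferInstance
  exact strong_of_homLift 𝒴.p f (G.map φ) (h.isStronglyCartesian _)

/-- two based functors out of a slice into a category fibred in groupoids with isomorphic values
at the terminal object are isomorphic -/
theorem exists_iso_of_app_T {U : C} (h : FibCat.IsFibGrpd 𝒴.p) {G H : FibCat.overCat U ⥤ᵇ 𝒴}
    (ψ : (und G).obj (ovT U) ≅ (und H).obj (ovT U)) (hψ : 𝒴.p.IsHomLift (𝟙 U) ψ.hom) :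
    Nonempty (G ≅ H) := by
  have hψ' : 𝒴.p.IsHomLift (𝟙 U) ψ.inv := IsHomLift.lift_id_inv 𝒴.p U ψ
  obtain ⟨α, hα⟩ := exists_undNat_of_app_T (preserves_of_isFibGrpd h H) ψ.hom hψ
  obtain ⟨β, hβ⟩ := exists_undNat_of_app_T (preserves_of_isFibGrpd h G) ψ.inv hψ'
  refine ⟨⟨α, β, ?_, ?_⟩⟩
  · apply undNat_ext_of_app_T (preserves_of_isFibGrpd h G)
    change (undNat α).app (ovT U) ≫ (undNat β).app (ovT U) = 𝟙 _
    rw [hα, hβ, Iso.hom_inv_id]
  · apply undNat_ext_of_app_T (preserves_of_isFibGrpd h H)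
    change (undNat β).app (ovT U) ≫ (undNat α).app (ovT U) = 𝟙 _
    rw [hα, hβ, Iso.inv_hom_id]

end pres

section overmap

/-- composition with `g`, as a based functor between slices -/
abbrev ovMap {U Y : C} (g : U ⟶ Y) : FibCat.overCat U ⥤ᵇ FibCat.overCat Y :=
  ⟨Over.map g, Over.mapForget_eq g⟩

/-- 2-Yoneda for slices: every based functor between slices is isomorphic to composition with a
morphism -/
theorem exists_iso_ovMap {U Y : C} (G : FibCat.overCat U ⥤ᵇ FibCat.overCat Y) :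
    ∃ g : U ⟶ Y, Nonempty (G ≅ ovMap g) := by
  have hU : ((und G).obj (ovT U)).left = U := G.w_obj (ovT U)
  let g : U ⟶ Y := eqToHom hU.symm ≫ ((und G).obj (ovT U)).hom
  refine ⟨g, ?_⟩
  let ψ : (und G).obj (ovT U) ≅ (und (ovMap g)).obj (ovT U) :=
    Over.isoMk (eqToIso hU) (by
      change eqToHom hU ≫ (𝟙 U ≫ g) = _
      simp [g])
  apply exists_iso_of_app_T (isFibGrpd_overForget Y) ψ
  apply IsHomLift.of_fac (Over.forget Y) (𝟙 U) ψ.hom hU rfl
  change 𝟙 U = eqToHom hU.symm ≫ eqToHom hU ≫ eqToHom rfl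
  simp

end overmap

section pb
variable [HasPullbacks C] {U X Y : C} (g : U ⟶ Y) (f : X ⟶ Y)

/-- the 2-isomorphism filling the square of slices over a pullback square -/
noncomputable def ovPbIso : BasedFunctor.comp (ovMap (pullback.fst g f)) (ovMap g) ≅
    BasedFunctor.comp (ovMap (pullback.snd g f)) (ovMap f) :=
  BasedNatIso.mkNatIso
    (NatIso.ofComponents
      (fun t => Over.isoMk (Iso.refl t.left) (by
        change 𝟙 _ ≫ ((t.hom ≫ pullback.snd g f) ≫ f) = (t.hom ≫ pullback.fst g f) ≫ g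
        simp [pullback.condition]))
      (by
        intro t t' m
        apply Over.OverMorphism.ext
        change m.left ≫ 𝟙 _ = 𝟙 _ ≫ m.left
        simp))
    (fun t => IsHomLift.of_fac (Over.forget Y) _ _ rfl rfl (by
      change 𝟙 _ = eqToHom rfl ≫ 𝟙 _ ≫ eqToHom rfl
      simp))

/-- the comparison functor `C/(U ×_Y X) ⥤ C/U ×_{C/Y} C/X` -/
noncomputable def ovPbLift : FibCat.overCat (pullback g f) ⥤ᵇ FibCat.fp (ovMap g) (ovMap f) :=
  FibCat.fpLift (ovMap (pullback.fst g f)) (ovMap (pullback.snd g f)) (ovPbIso g f)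

theorem ovPbLift_faithful : (ovPbLift g f).toFunctor.Faithful := by
  refine ⟨fun {t t'} m m' h => ?_⟩
  have h1 : ((ovPbLift g f).map m).hom.fst.left = ((ovPbLift g f).map m').hom.fst.left :=
    congrArg (fun z => z.hom.fst.left) h
  apply Over.OverMorphism.ext
  exact h1

theorem ovPbLift_full : (ovPbLift g f).toFunctor.Full := by
  refine ⟨fun {t t'} φ => ?_⟩
  have hw := congrArg CommaMorphism.left φ.hom.w
  have h12 : φ.hom.fst.left = φ.hom.snd.left := by
    have : φ.hom.fst.left ≫ 𝟙 _ = 𝟙 _ ≫ φ.hom.snd.left := hw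
    simpa using this
  have w1 : φ.hom.fst.left ≫ (t'.hom ≫ pullback.fst g f) = t.hom ≫ pullback.fst g f :=
    Over.w φ.hom.fst
  have w2 : φ.hom.snd.left ≫ (t'.hom ≫ pullback.snd g f) = t.hom ≫ pullback.snd g f :=
    Over.w φ.hom.snd
  let l : t.left ⟶ t'.left := φ.hom.fst.left
  have hl : l ≫ t'.hom = t.hom := by
    apply pullback.hom_ext
    · rw [Category.assoc]; exact w1
    · rw [Category.assoc]; show φ.hom.fst.left ≫ _ = _; rw [h12]; exact w2
  refine ⟨Over.homMk l hl, ?_⟩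
  apply fp_hom_ext
  · apply Over.OverMorphism.ext
    rfl
  · apply Over.OverMorphism.ext
    exact h12

theorem ovPbLift_essSurj (η : (FibCat.fp (ovMap g) (ovMap f)).obj) :
    ∃ (ξ : (FibCat.overCat (pullback g f)).obj) (e : (ovPbLift g f).obj ξ ≅ η),
      (FibCat.fp (ovMap g) (ovMap f)).p.IsHomLift
        (𝟙 ((FibCat.fp (ovMap g) (ovMap f)).p.obj η)) e.hom := by
  let a : Over U := η.obj.fst
  let b : Over X := η.obj.snd
  let s : a.left ≅ b.left := (Over.forget Y).mapIso η.obj.iso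
  have hs : s.hom ≫ (b.hom ≫ f) = a.hom ≫ g := Over.w η.obj.iso.hom
  let ξ : Over (pullback g f) :=
    Over.mk (pullback.lift a.hom (s.hom ≫ b.hom) (by rw [Category.assoc, hs]))
  let e₁ : ((ovPbLift g f).obj ξ).obj.fst ≅ η.obj.fst :=
    Over.isoMk (Iso.refl a.left) (by
      change 𝟙 _ ≫ a.hom = pullback.lift a.hom (s.hom ≫ b.hom) _ ≫ pullback.fst g f
      rw [Category.id_comp, pullback.lift_fst])
  let e₂ : ((ovPbLift g f).obj ξ).obj.snd ≅ η.obj.snd :=
    Over.isoMk s (by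
      change s.hom ≫ b.hom = pullback.lift a.hom (s.hom ≫ b.hom) _ ≫ pullback.snd g f
      rw [pullback.lift_snd])
  let e : (ovPbLift g f).obj ξ ≅ η :=
    fpIsoMk (ovMap g) (ovMap f) e₁ e₂ (by
      apply Over.OverMorphism.ext
      change 𝟙 _ ≫ s.hom = 𝟙 _ ≫ s.hom
      rfl)
  refine ⟨ξ, e, ?_⟩
  have : (FibCat.overCat U).p.IsHomLift (𝟙 a.left) e.hom.hom.fst :=
    IsHomLift.of_fac (Over.forget U) _ _ rfl rfl (by
      change 𝟙 _ = eqToHom rfl ≫ 𝟙 _ ≫ eqToHom rfl
      simp)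
  exact fp_isHomLift_of_fst (ovMap g) (ovMap f) e.hom (𝟙 a.left)

theorem isEquivOver_ovPbLift : FibCat.IsEquivOver (ovPbLift g f) := by
  have := ovPbLift_full g f
  have := ovPbLift_faithful g f
  exact isEquivOver_of_fullyFaithful_of_fiberwise_essSurj _ (fun η => ovPbLift_essSurj g f η)

theorem isRepresentable_fp_ovMap : FibCat.IsRepresentable (FibCat.fp (ovMap g) (ovMap f)) :=
  isRepresentable_of_isEquivOver' (isEquivOver_ovPbLift g f)
    ⟨pullback g f, BasedFunctor.id _, isEquivOver_id _⟩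

theorem isRepresentable1_ovMap : FibCat.IsRepresentable1 (ovMap f) := by
  intro U G
  obtain ⟨g, ⟨ν⟩⟩ := exists_iso_ovMap G
  have : (BasedFunctor.id (FibCat.overCat Y)).toFunctor.Full :=
    (inferInstance : (𝟭 (Over Y)).Full)
  have : (BasedFunctor.id (FibCat.overCat Y)).toFunctor.Faithful :=
    (inferInstance : (𝟭 (Over Y)).Faithful)
  have hΨ := isEquivOver_fpMap G (ovMap f) (ovMap g) (ovMap f) (BasedFunctor.id _)
    (BasedFunctor.id _) (BasedFunctor.id _) ν.symm (Iso.refl _) (isEquivOver_id _) (isEquivOver_id _)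
  exact isRepresentable_of_isEquivOver' hΨ (isRepresentable_fp_ovMap g f)

end pb

end Groth.Agent.H64
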