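import Groth.Agent.H64.Reynolds
import Mathlib.RingTheory.Ideal.Maps
import Mathlib.RingTheory.Ideal.Quotient.Operations
import Mathlib.RingTheory.Spectrum.Prime.RingHom

set_option autoImplicit false
universe u v w w' w''
open HopfRep TensorProduct

namespace Groth.Agent.H64

section Inv

variable (k : Type u) [CommRing k] (A : Type v) [CommRing A] [HopfAlgebra k A]
    (B : Type w) [CommRing B] [Algebra k B] [HopfRep.Comod k A B] [GLin.IsCoactAlg k A B]
    (α : A →ₗ[k] B)

/-- the Reynolds operator of `B` itself -/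
noncomputable def rey : B →ₗ[k] B := TameAct.reynolds k A B B α

theorem rey_mem (hα : Hoch.IsComodHom A α) (b : B) : rey k A B α b ∈ GLin.invariants k A B := by
  have := isHopfMod_self k A B
  exact reynolds_mem_fixedPts k A B B α hα b

theorem rey_of_mem (hα1 : α 1 = 1) (b : B) (hb : b ∈ GLin.invariants k A B) :
    rey k A B α b = b :=
  reynolds_of_mem_fixedPts k A B B α hα1 b hb

theorem rey_mul (c b : B) (hc : c ∈ GLin.invariants k A B) :
    rey k A B α (c * b) = c * rey k A B α b := by
  have hc' : HopfRep.Comod.coact (k := k) (A := A) c = c ⊗ₜ[k] (1 : A) := hc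
  unfold rey TameAct.reynolds
  rw [LinearMap.comp_apply, LinearMap.comp_apply, GLin.IsCoactAlg.coact_mul (k := k) (A := A), hc']
  generalize HopfRep.Comod.coact (k := k) (A := A) b = z
  induction z using TensorProduct.induction_on with
  | zero => simp
  | tmul b' a => simp [mul_left_comm]
  | add p q hp hq => simp only [mul_add, map_add, hp, hq]

omit [GLin.IsCoactAlg k A B] in
theorem rey_mem_of_isSubcomod (b : Ideal B)
    (hb : HopfRep.IsSubcomod (k := k) (A := A) (b.restrictScalars k)) (t : B) (ht : t ∈ b) :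
    rey k A B α t ∈ b := by
  obtain ⟨w, hw⟩ := hb t ht
  unfold rey TameAct.reynolds
  rw [LinearMap.comp_apply, ← hw]
  clear hw
  induction w using TensorProduct.induction_on with
  | zero => simp
  | tmul t' a =>
    simp only [LinearMap.rTensor_tmul, Submodule.subtype_apply, TensorProduct.lift.tmul,
      LinearMap.flip_apply, LinearMap.comp_apply]
    exact b.mul_mem_left _ t'.2
  | add p q hp hq =>
    simp only [map_add]
    exact b.add_mem hp hq

theorem mem_of_mem_map_sup (hα : Hoch.IsComodHom A α) (hα1 : α 1 = 1)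
    (c : Ideal (GLin.invariants k A B)) (b : Ideal B)
    (hbE : ∀ t ∈ b, rey k A B α t ∈ b)
    (hbc : b.comap (algebraMap (GLin.invariants k A B) B) ≤ c)
    (x : GLin.invariants k A B)
    (hx : (x : B) ∈ c.map (algebraMap (GLin.invariants k A B) B) ⊔ b) : x ∈ c := by
  -- the ideal of elements all of whose multiples have Reynolds image in `c`
  let N : Ideal B :=
    { carrier := {y | ∀ b' : B, ∃ z ∈ c, rey k A B α (b' * y) = (z : B)}
      zero_mem' := fun b' => ⟨0, c.zero_mem, by simp⟩
      add_mem' := by
        intro y y' hy hy' b'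
        obtain ⟨z, hz, e⟩ := hy b'
        obtain ⟨z', hz', e'⟩ := hy' b'
        exact ⟨z + z', c.add_mem hz hz', by rw [mul_add, map_add, e, e']; rfl⟩
      smul_mem' := by
        intro r y hy b'
        obtain ⟨z, hz, e⟩ := hy (b' * r)
        exact ⟨z, hz, by rw [smul_eq_mul, ← mul_assoc, e]⟩ }
  have hN : c.map (algebraMap (GLin.invariants k A B) B) ≤ N := by
    rw [Ideal.map_le_iff_le_comap]
    intro c₀ hc₀ b'
    refine ⟨c₀ * ⟨rey k A B α b', rey_mem k A B α hα b'⟩, c.mul_mem_right _ hc₀, ?_⟩
    have : (algebraMap (GLin.invariants k A B) B) c₀ = (c₀ : B) := rfl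
    rw [this, mul_comm, rey_mul k A B α _ _ c₀.2]
    rfl
  obtain ⟨y, hy, t, ht, hyt⟩ := Submodule.mem_sup.1 hx
  obtain ⟨z, hz, e⟩ := hN hy 1
  rw [one_mul] at e
  have h1 : rey k A B α (x : B) = (x : B) := rey_of_mem k A B α hα1 _ x.2
  have h2 : rey k A B α t ∈ b := hbE t ht
  have h3 : (⟨rey k A B α t, rey_mem k A B α hα t⟩ : GLin.invariants k A B) ∈ c := hbc h2
  have h4 : x = z + ⟨rey k A B α t, rey_mem k A B α hα t⟩ := by
    apply Subtype.ext
    show (x : B) = (z : B) + rey k A B α t
    rw [← e, ← map_add, hyt, h1]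
  rw [h4]
  exact c.add_mem hz h3

theorem comap_map_invariants (hα : Hoch.IsComodHom A α) (hα1 : α 1 = 1)
    (c : Ideal (GLin.invariants k A B)) :
    (c.map (algebraMap (GLin.invariants k A B) B)).comap (algebraMap (GLin.invariants k A B) B) = c := by
  apply le_antisymm
  · intro x hx
    apply mem_of_mem_map_sup k A B α hα hα1 c ⊥ (by intro t ht; rw [Ideal.mem_bot] at ht; simp [ht])
      (by intro y hy; rw [Ideal.mem_comap, Ideal.mem_bot] at hy
          have : y = 0 := Subtype.ext hy
          rw [this]; exact c.zero_mem) x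
    rw [sup_bot_eq]
    exact hx
  · exact Ideal.le_comap_map

theorem image_zeroLocus_invariants (hα : Hoch.IsComodHom A α) (hα1 : α 1 = 1)
    (b : Ideal B) (hb : HopfRep.IsSubcomod (k := k) (A := A) (b.restrictScalars k)) :
    PrimeSpectrum.comap (algebraMap (GLin.invariants k A B) B) '' PrimeSpectrum.zeroLocus (b : Set B) =
      PrimeSpectrum.zeroLocus ((b.comap (algebraMap (GLin.invariants k A B) B) :
        Ideal (GLin.invariants k A B)) : Set (GLin.invariants k A B)) := by
  apply Set.eq_of_subset_of_subset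
  · rintro _ ⟨q, hq, rfl⟩
    rw [PrimeSpectrum.mem_zeroLocus] at hq ⊢
    intro x hx
    exact hq hx
  · intro p hp
    rw [PrimeSpectrum.mem_zeroLocus] at hp
    set f := algebraMap (GLin.invariants k A B) B with hf
    set g : GLin.invariants k A B →+* B ⧸ b := (Ideal.Quotient.mk b).comp f with hg
    have hcm : (p.asIdeal.map g).comap g = p.asIdeal := by
      apply le_antisymm
      · intro x hx
        rw [Ideal.mem_comap] at hx
        have hx' : (x : B) ∈ (p.asIdeal.map f) ⊔ b := by
          have h1 : p.asIdeal.map g = (p.asIdeal.map f).map (Ideal.Quotient.mk b) := by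
            rw [hg, Ideal.map_map]
          rw [h1] at hx
          have h2 : f x ∈ ((p.asIdeal.map f).map (Ideal.Quotient.mk b)).comap (Ideal.Quotient.mk b) := hx
          rw [Ideal.comap_map_of_surjective _ Ideal.Quotient.mk_surjective,
            ← RingHom.ker_eq_comap_bot, Ideal.mk_ker] at h2
          exact h2
        exact mem_of_mem_map_sup k A B α hα hα1 p.asIdeal b
          (rey_mem_of_isSubcomod k A B α b hb) hp x hx'
      · exact Ideal.le_comap_map
    obtain ⟨q', hq', hq'p⟩ := (Ideal.comap_map_eq_self_iff_of_isPrime p.asIdeal).1 hcm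
    refine ⟨⟨q'.comap (Ideal.Quotient.mk b), inferInstance⟩, ?_, ?_⟩
    · rw [PrimeSpectrum.mem_zeroLocus]
      intro t ht
      show (Ideal.Quotient.mk b) t ∈ q'
      rw [Ideal.Quotient.eq_zero_iff_mem.2 ht]
      exact q'.zero_mem
    · apply PrimeSpectrum.ext
      show (q'.comap (Ideal.Quotient.mk b)).comap f = p.asIdeal
      rw [Ideal.comap_comap]
      exact hq'p

end Inv

end Groth.Agent.H64
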