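import Mathlib.RingTheory.Invariant.Basic

set_option autoImplicit false
universe u v
open scoped Pointwise

namespace Groth.Agent.H64

section
variable (B : Type u) [CommRing B] (Γ : Type v) [Group Γ] [MulSemiringAction Γ B]
    (Ω : Subgroup Γ)

theorem isInvariant_fixedPoints : Algebra.IsInvariant (FixedPoints.subring B Ω) B Ω where
  isInvariant b hb := ⟨⟨b, hb⟩, rfl⟩

theorem mem_fixedPoints_subring_iff (x : B) :
    x ∈ FixedPoints.subring B Ω ↔ ∀ ω ∈ Ω, ω • x = x := by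
  constructor
  · intro h ω hω
    exact h ⟨ω, hω⟩
  · intro h ω
    exact h ω.1 ω.2

variable [Finite Γ] (P : Ideal B) [P.IsPrime] (γ : Γ)

theorem decomp_of_normal
    (h : ∀ x : B, (∀ ω ∈ Ω, ω • x = x) → (x ∈ P ↔ γ • x ∈ P)) :
    ∃ ω ∈ Ω, ∀ x : B, x ∈ P ↔ (γ * ω) • x ∈ P := by
  have := isInvariant_fixedPoints B Γ Ω
  set P' : Ideal B := P.comap (MulSemiringAction.toRingHom Γ B γ) with hP'
  have hmem : ∀ x, x ∈ P' ↔ γ • x ∈ P := fun x => Iff.rfl
  have hP'prime : P'.IsPrime := Ideal.comap_isPrime _ _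
  have hunder : P.under (FixedPoints.subring B Ω) = P'.under (FixedPoints.subring B Ω) := by
    ext x
    simp only [Ideal.under_def, Ideal.mem_comap]
    have hx : ∀ ω ∈ Ω, ω • (x : B) = x := (mem_fixedPoints_subring_iff B Γ Ω x).1 x.2
    rw [hmem]
    exact h x hx
  obtain ⟨ω, hω⟩ := Algebra.IsInvariant.exists_smul_of_under_eq (FixedPoints.subring B Ω) B Ω P P' hunder
  refine ⟨ω.1, ω.2, ?_⟩
  intro x
  rw [mul_smul, ← hmem, hω]
  exact (Ideal.smul_mem_pointwise_smul_iff (a := ω) (S := P) (x := x)).symm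

theorem inertia_of_normal [Ω.Normal]
    (h : ∀ x : B, (∀ ω ∈ Ω, ω • x = x) → γ • x - x ∈ P) :
    ∃ ω ∈ Ω, ∀ x : B, (γ * ω) • x - x ∈ P := by
  have hinv := isInvariant_fixedPoints B Γ Ω
  have h0 : ∀ x : B, (∀ ω ∈ Ω, ω • x = x) → (x ∈ P ↔ γ • x ∈ P) := by
    intro x hx
    have hd := h x hx
    constructor
    · intro hxP
      have : γ • x = (γ • x - x) + x := by ring
      rw [this]; exact P.add_mem hd hxP
    · intro hxP
      have : x = γ • x - (γ • x - x) := by ring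
      rw [this]; exact P.sub_mem hxP hd
  obtain ⟨ω₁, hω₁, hdec⟩ := decomp_of_normal B Γ Ω P γ h0
  set γ₁ : Γ := γ * ω₁ with hγ₁
  have hstab : γ₁ • P = P := by
    ext x
    rw [Ideal.mem_pointwise_smul_iff_inv_smul_mem, hdec (γ₁⁻¹ • x), smul_inv_smul]
  have h1 : ∀ x : B, (∀ ω ∈ Ω, ω • x = x) → γ₁ • x - x ∈ P := by
    intro x hx
    rw [hγ₁, mul_smul, hx ω₁ hω₁]
    exact h x hx
  -- the induced automorphism of `B ⧸ P`
  let e : B ⧸ P ≃+* B ⧸ P :=
    Ideal.quotientEquiv P P (MulSemiringAction.toRingEquiv Γ B γ₁) hstab.symm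
  have he : ∀ x : B, e (Ideal.Quotient.mk P x) = Ideal.Quotient.mk P (γ₁ • x) := fun x => rfl
  let σ : (B ⧸ P) ≃ₐ[(FixedPoints.subring B Ω) ⧸ P.under (FixedPoints.subring B Ω)] (B ⧸ P) :=
    AlgEquiv.ofRingEquiv (f := e) (by
      intro r
      obtain ⟨a, rfl⟩ := Ideal.Quotient.mk_surjective r
      have : algebraMap ((FixedPoints.subring B Ω) ⧸ P.under (FixedPoints.subring B Ω)) (B ⧸ P)
          (Ideal.Quotient.mk _ a) = Ideal.Quotient.mk P (a : B) := rfl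
      rw [this, he, Ideal.Quotient.eq]
      exact h1 a ((mem_fixedPoints_subring_iff B Γ Ω a).1 a.2))
  obtain ⟨ω₂, hω₂⟩ := Ideal.Quotient.stabilizerHom_surjective Ω
    (P.under (FixedPoints.subring B Ω)) P σ.symm
  refine ⟨ω₁ * (ω₂ : Ω), Ω.mul_mem hω₁ (ω₂ : Ω).2, ?_⟩
  intro x
  have h2 := congrArg (fun τ => σ (τ (Ideal.Quotient.mk P x))) hω₂
  simp only [AlgEquiv.apply_symm_apply] at h2
  rw [← mul_assoc, ← hγ₁, mul_smul, ← Ideal.Quotient.eq, ← he]
  exact h2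

end

end Groth.Agent.H64
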