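import Groth.Agent.H64.Stk.Lift
import Mathlib.CategoryTheory.Sites.InducedTopology
import Mathlib.CategoryTheory.Sites.DenseSubsite.InducedTopology

set_option autoImplicit false
open CategoryTheory
universe v₃ u₃ v₂ u₂ v u

namespace Groth.Agent.H64

variable {C : Type u} [Category.{v} C] {𝒳 : Type u₂} [Category.{v₂} 𝒳] (p : 𝒳 ⥤ C)

/-- for `p` fibred in groupoids, pulling back the image of a sieve is contained in the image of the
pulled back sieve -/
theorem pullback_pushforward_le (hp : FibCat.IsFibGrpd p) {X Y : 𝒳} (S : Sieve X) (f : Y ⟶ X) :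
    (S.functorPushforward p).pullback (p.map f) ≤ (S.pullback f).functorPushforward p := by
  intro W g hg
  obtain ⟨Z, s, h, hs, e⟩ := hg
  obtain ⟨y', s', hs'⟩ := hp.exists_lift (x := Y) g
  obtain ⟨z', t, ht⟩ := hp.exists_lift (x := Z) h
  have h1 : p.IsHomLift (g ≫ p.map f) (s' ≫ f) := lift_comp p hs' (lift_map p f)
  have h2 : p.IsHomLift (g ≫ p.map f) (t ≫ s) := e ▸ lift_comp p ht (lift_map p s)
  obtain ⟨χ, -, hχ⟩ := cart_lift_id p (cart_of_fibGrpd p hp h2) (s' ≫ f) h1
  have hS : S (s' ≫ f) := by
    rw [← hχ]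
    exact S.downward_closed (S.downward_closed hs t) χ
  have hd : p.obj y' = W := lift_domain_eq p hs'
  refine ⟨y', s', eqToHom hd.symm, hS, ?_⟩
  have := IsHomLift.fac p g s'
  rw [this]
  simp

/-- `p` fibred in groupoids preserves covers for the restricted topology -/
theorem functorPushforward_mem_of_mem_restrictedTopology (hp : FibCat.IsFibGrpd p)
    (J : GrothendieckTopology C) {x : 𝒳} {S : Sieve x} (hS : S ∈ p.restrictedTopology J x) :
    S.functorPushforward p ∈ J (p.obj x) := by
  rw [Functor.restrictedTopology] at hS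
  induction hS with
  | of X S hS => rwa [← Sieve.generate_map_eq_functorPushforward]
  | top X => simp
  | pullback X S _ Y f ih =>
    exact J.superset_covering (pullback_pushforward_le p hp S f) (J.pullback_stable (p.map f) ih)
  | transitive X S R _ _ hS H' =>
    apply J.transitive hS
    rintro Y _ ⟨Z, g, i, hg, rfl⟩
    rw [Sieve.pullback_comp]
    apply J.pullback_stable i
    refine J.superset_covering ?_ (H' hg)
    rintro W _ ⟨Z', g', i', hg, rfl⟩
    refine ⟨Z', g' ≫ g, i', hg, ?_⟩
    simp

theorem mem_restrictedTopology_iff_of_isFibGrpd (hp : FibCat.IsFibGrpd p)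
    (J : GrothendieckTopology C) {x : 𝒳} (S : Sieve x) :
    S ∈ p.restrictedTopology J x ↔ S.functorPushforward p ∈ J (p.obj x) :=
  ⟨functorPushforward_mem_of_mem_restrictedTopology p hp J,
    Functor.mem_restrictedTopology_of_functorPushforward_mem⟩

end Groth.Agent.H64
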