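import Groth.Agent.H64.RestrTop
import Mathlib.CategoryTheory.Sites.CoverPreserving
import Mathlib.CategoryTheory.Sites.CoverLifting

set_option autoImplicit false
open CategoryTheory
universe w v₃ u₃ v₂ u₂ v u

namespace Groth.Agent.H64

variable {C : Type u} [Category.{v} C]

section aux
variable {𝒳 : Type u₂} [Category.{v₂} 𝒳]

theorem functorPushforward_mem_congr {G G' : 𝒳 ⥤ C} (h : G = G') (J : GrothendieckTopology C)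
    {U : 𝒳} (S : Sieve U) :
    S.functorPushforward G ∈ J (G.obj U) ↔ S.functorPushforward G' ∈ J (G'.obj U) := by
  subst h
  rfl

theorem lift_comp_eqToHom (p : 𝒳 ⥤ C) {R S S' : C} {a b : 𝒳} {f : R ⟶ S} {φ : a ⟶ b}
    (h : p.IsHomLift f φ) (e : S = S') : p.IsHomLift (f ≫ eqToHom e) φ := by
  subst e
  simpa using h

end aux

section based

variable {𝒳 : BasedCategory.{v₂, u₂} C} {𝒴 : BasedCategory.{v₃, u₃} C}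

theorem coverPreserving_restrictedTopology_based (J : GrothendieckTopology C)
    (h𝒳 : FibCat.IsFibGrpd 𝒳.p) (F : 𝒳 ⥤ᵇ 𝒴) :
    CoverPreserving (𝒳.p.restrictedTopology J) (𝒴.p.restrictedTopology J) F.toFunctor := by
  refine ⟨fun {U S} hS => ?_⟩
  apply Functor.mem_restrictedTopology_of_functorPushforward_mem
  rw [← Sieve.functorPushforward_comp]
  exact (functorPushforward_mem_congr F.w J S).mpr
    (functorPushforward_mem_of_mem_restrictedTopology 𝒳.p h𝒳 J hS)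

theorem isCocontinuous_restrictedTopology_based (J : GrothendieckTopology C)
    (h𝒳 : FibCat.IsFibGrpd 𝒳.p) (h𝒴 : FibCat.IsFibGrpd 𝒴.p) (F : 𝒳 ⥤ᵇ 𝒴) :
    F.toFunctor.IsCocontinuous (𝒳.p.restrictedTopology J) (𝒴.p.restrictedTopology J) := by
  refine ⟨fun {U S} hS => ?_⟩
  apply Functor.mem_restrictedTopology_of_functorPushforward_mem
  have hS' := functorPushforward_mem_of_mem_restrictedTopology 𝒴.p h𝒴 J hS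
  have hU : 𝒳.p.obj U = 𝒴.p.obj (F.obj U) := (F.w_obj U).symm
  refine J.superset_covering ?_ (J.pullback_stable (eqToHom hU) hS')
  intro W g hg
  obtain ⟨z, s, h, hs, e⟩ := hg
  obtain ⟨u', s', hs'⟩ := h𝒳.exists_lift (x := U) g
  obtain ⟨z', t, ht⟩ := h𝒴.exists_lift (x := z) h
  have h0 : 𝒴.p.IsHomLift g (F.map s') := BasedFunctor.preserves_isHomLift F g s'
  have h1 : 𝒴.p.IsHomLift (g ≫ eqToHom hU) (F.map s') := lift_comp_eqToHom 𝒴.p h0 hU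
  have h2 : 𝒴.p.IsHomLift (g ≫ eqToHom hU) (t ≫ s) := e ▸ lift_comp 𝒴.p ht (lift_map 𝒴.p s)
  obtain ⟨χ, -, hχ⟩ := cart_lift_id 𝒴.p (cart_of_fibGrpd 𝒴.p h𝒴 h2) (F.map s') h1
  have hSs : S (F.map s') := by
    rw [← hχ]
    exact S.downward_closed (S.downward_closed hs t) χ
  have hd : 𝒳.p.obj u' = W := lift_domain_eq 𝒳.p hs'
  refine ⟨u', s', eqToHom hd.symm, hSs, ?_⟩
  have := IsHomLift.fac 𝒳.p g s'
  rw [this]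
  simp

theorem compatiblePreserving_restrictedTopology_based (K : GrothendieckTopology 𝒴.obj)
    (h𝒳 : FibCat.IsFibGrpd 𝒳.p) (h𝒴 : FibCat.IsFibGrpd 𝒴.p) (F : 𝒳 ⥤ᵇ 𝒴) :
    CompatiblePreserving.{w} K F.toFunctor := by
  refine ⟨fun ℱ Z T x hx Y₁ Y₂ X f₁ f₂ g₁ g₂ hg₁ hg₂ eq => ?_⟩
  -- lift the base morphisms of `f₁`, `f₂` to `𝒳`
  have hY₁ : 𝒴.p.obj (F.obj Y₁) = 𝒳.p.obj Y₁ := F.w_obj Y₁
  have hY₂ : 𝒴.p.obj (F.obj Y₂) = 𝒳.p.obj Y₂ := F.w_obj Y₂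
  obtain ⟨Y₁', a₁, ha₁⟩ := h𝒳.exists_lift (x := Y₁) (𝒴.p.map f₁ ≫ eqToHom hY₁)
  obtain ⟨Y₂', a₂, ha₂⟩ := h𝒳.exists_lift (x := Y₂) (𝒴.p.map f₂ ≫ eqToHom hY₂)
  -- `f₁ = c₁ ≫ F a₁`
  have hFa₁ : 𝒴.p.IsHomLift (𝒴.p.map f₁ ≫ eqToHom hY₁) (F.map a₁) :=
    BasedFunctor.preserves_isHomLift F _ a₁
  have hf₁ : 𝒴.p.IsHomLift (𝒴.p.map f₁ ≫ eqToHom hY₁) f₁ :=
    lift_comp_eqToHom 𝒴.p (lift_map 𝒴.p f₁) hY₁
  obtain ⟨c₁, hc₁, hc₁'⟩ := cart_lift_id 𝒴.p (cart_of_fibGrpd 𝒴.p h𝒴 hFa₁) f₁ hf₁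
  have hFa₂ : 𝒴.p.IsHomLift (𝒴.p.map f₂ ≫ eqToHom hY₂) (F.map a₂) :=
    BasedFunctor.preserves_isHomLift F _ a₂
  have hf₂ : 𝒴.p.IsHomLift (𝒴.p.map f₂ ≫ eqToHom hY₂) f₂ :=
    lift_comp_eqToHom 𝒴.p (lift_map 𝒴.p f₂) hY₂
  obtain ⟨c₂, hc₂, hc₂'⟩ := cart_lift_id 𝒴.p (cart_of_fibGrpd 𝒴.p h𝒴 hFa₂) f₂ hf₂
  -- compare `a₁ ≫ g₁` and `a₂ ≫ g₂`
  have hbase : (𝒴.p.map f₁ ≫ eqToHom hY₁) ≫ 𝒳.p.map g₁ =
      (𝒴.p.map f₂ ≫ eqToHom hY₂) ≫ 𝒳.p.map g₂ := by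
    have e1 := congrArg (fun m => 𝒴.p.map m) eq
    simp only [Functor.map_comp] at e1
    have n1 := Functor.congr_hom F.w g₁
    have n2 := Functor.congr_hom F.w g₂
    simp only [Functor.comp_map] at n1 n2
    rw [n1, n2] at e1
    have hZ : 𝒳.p.obj Z = 𝒴.p.obj (F.obj Z) := (F.w_obj Z).symm
    have e2 : ((𝒴.p.map f₁ ≫ eqToHom hY₁) ≫ 𝒳.p.map g₁) ≫ eqToHom hZ =
        ((𝒴.p.map f₂ ≫ eqToHom hY₂) ≫ 𝒳.p.map g₂) ≫ eqToHom hZ := by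
      simpa using e1
    exact (cancel_mono _).mp e2
  have h1 : 𝒳.p.IsHomLift ((𝒴.p.map f₂ ≫ eqToHom hY₂) ≫ 𝒳.p.map g₂) (a₁ ≫ g₁) :=
    hbase ▸ lift_comp 𝒳.p ha₁ (lift_map 𝒳.p g₁)
  have h2 : 𝒳.p.IsHomLift ((𝒴.p.map f₂ ≫ eqToHom hY₂) ≫ 𝒳.p.map g₂) (a₂ ≫ g₂) :=
    lift_comp 𝒳.p ha₂ (lift_map 𝒳.p g₂)
  obtain ⟨θ, hθ, hθ'⟩ := cart_lift_id 𝒳.p (cart_of_fibGrpd 𝒳.p h𝒳 h2) (a₁ ≫ g₁) h1
  -- `c₁ ≫ F θ = c₂`
  have hFθ : 𝒴.p.IsHomLift (𝟙 (𝒴.p.obj X)) (F.map θ) := BasedFunctor.preserves_isHomLift F _ θ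
  have hFag : 𝒴.p.IsHomLift ((𝒴.p.map f₂ ≫ eqToHom hY₂) ≫ 𝒳.p.map g₂) (F.map (a₂ ≫ g₂)) :=
    BasedFunctor.preserves_isHomLift F _ _
  have hcc : c₁ ≫ F.map θ = c₂ := by
    apply cart_ext 𝒴.p (cart_of_fibGrpd 𝒴.p h𝒴 hFag) (𝟙 (𝒴.p.obj X))
      (lift_id_comp_id 𝒴.p hc₁ hFθ) hc₂
    rw [Category.assoc, ← F.map_comp, hθ', F.map_comp, ← Category.assoc, hc₁',
      F.map_comp, ← Category.assoc, hc₂', eq]
  -- conclude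
  have hcomp := hx (θ ≫ a₂) a₁ hg₂ hg₁ (by rw [Category.assoc, hθ'])
  have e1 : ℱ.obj.map f₁.op (x g₁ hg₁) = ℱ.obj.map c₁.op (ℱ.obj.map (F.map a₁).op (x g₁ hg₁)) := by
    rw [← hc₁', op_comp, Functor.map_comp]
    rfl
  have e2 : ℱ.obj.map f₂.op (x g₂ hg₂) = ℱ.obj.map c₂.op (ℱ.obj.map (F.map a₂).op (x g₂ hg₂)) := by
    rw [← hc₂', op_comp, Functor.map_comp]
    rfl
  have e3 : ℱ.obj.map (F.map a₁).op (x g₁ hg₁) =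
      ℱ.obj.map (F.map θ).op (ℱ.obj.map (F.map a₂).op (x g₂ hg₂)) := by
    have : ℱ.obj.map (F.map (θ ≫ a₂)).op (x g₂ hg₂) =
        ℱ.obj.map (F.map a₁).op (x g₁ hg₁) := hcomp
    rw [F.map_comp, op_comp, Functor.map_comp] at this
    exact this.symm
  rw [e1, e2, e3, ← hcc, op_comp, Functor.map_comp]
  rfl

end based

end Groth.Agent.H64
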