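import Groth.Agent.H64.RestrTop
import Mathlib.CategoryTheory.Sites.Over

set_option autoImplicit false
open CategoryTheory
universe v₃ u₃ v₂ u₂ v u

namespace Groth.Agent.H64

variable {C : Type u} [Category.{v} C] {𝒳 : Type u₂} [Category.{v₂} 𝒳] (p : 𝒳 ⥤ C)

theorem overPost_faithful (hp : FibCat.IsFibGrpd p) (x : 𝒳) :
    (Over.post p : Over x ⥤ Over (p.obj x)).Faithful := by
  refine ⟨fun {a b} m m' h => ?_⟩
  have h1 : p.map m.left = p.map m'.left := congrArg CommaMorphism.left h
  apply Over.OverMorphism.ext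
  have hb : p.IsStronglyCartesian (p.map b.hom) b.hom := hp.isStronglyCartesian b.hom
  apply cart_ext p hb (p.map m.left) (lift_map p m.left) (h1 ▸ lift_map p m'.left)
  rw [Over.w m, Over.w m']

theorem overPost_full (hp : FibCat.IsFibGrpd p) (x : 𝒳) :
    (Over.post p : Over x ⥤ Over (p.obj x)).Full := by
  refine ⟨fun {a b} ψ => ?_⟩
  have hb : p.IsStronglyCartesian (p.map b.hom) b.hom := hp.isStronglyCartesian b.hom
  let ψl : p.obj a.left ⟶ p.obj b.left := ψ.left
  have hw : ψl ≫ p.map b.hom = p.map a.hom := Over.w ψ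
  obtain ⟨χ, hχ, hχ'⟩ := cart_lift p hb ψl (p.map a.hom) hw.symm a.hom (lift_map p a.hom)
  refine ⟨Over.homMk χ hχ', ?_⟩
  apply Over.OverMorphism.ext
  change p.map χ = ψl
  have := IsHomLift.fac p ψl χ
  rw [this]
  simp

theorem overPost_essSurj (hp : FibCat.IsFibGrpd p) (x : 𝒳) :
    (Over.post p : Over x ⥤ Over (p.obj x)).EssSurj := by
  refine ⟨fun c => ?_⟩
  obtain ⟨y, φ, hφ⟩ := hp.exists_lift (x := x) c.hom
  have hd : p.obj y = c.left := lift_domain_eq p hφ
  refine ⟨Over.mk φ, ⟨Over.isoMk (eqToIso hd) ?_⟩⟩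
  change eqToHom hd ≫ c.hom = p.map φ
  have := IsHomLift.fac p c.hom φ
  rw [this]
  simp

theorem overPost_isEquivalence (hp : FibCat.IsFibGrpd p) (x : 𝒳) :
    (Over.post p : Over x ⥤ Over (p.obj x)).IsEquivalence :=
  { faithful := overPost_faithful p hp x
    full := overPost_full p hp x
    essSurj := overPost_essSurj p hp x }

theorem mem_over_restrictedTopology_iff (hp : FibCat.IsFibGrpd p) (J : GrothendieckTopology C)
    (x : 𝒳) (a : Over x) (S : Sieve a) :
    S ∈ (p.restrictedTopology J).over x a ↔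
      S.functorPushforward (Over.post p) ∈ (J.over (p.obj x)) ((Over.post p).obj a) := by
  rw [GrothendieckTopology.mem_over_iff, GrothendieckTopology.mem_over_iff,
    mem_restrictedTopology_iff_of_isFibGrpd p hp J]
  change (S.functorPushforward (Over.forget x)).functorPushforward p ∈ J (p.obj a.left) ↔
    (S.functorPushforward (Over.post p)).functorPushforward (Over.forget (p.obj x)) ∈
      J (p.obj a.left)
  rw [← Sieve.functorPushforward_comp, ← Sieve.functorPushforward_comp]
  rfl

end Groth.Agent.H64
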