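import Groth.Agent.H64.Shear
import Groth.Prelude.Def_W4c1tameactTame

set_option autoImplicit false
universe u v w w' w''
open HopfRep TensorProduct

namespace Groth.Agent.H64

section Rey

variable (k : Type u) [CommRing k] (A : Type v) [CommRing A] [HopfAlgebra k A]
    (B : Type w) [CommRing B] [Algebra k B] [HopfRep.Comod k A B]
    (M : Type w') [AddCommGroup M] [Module k M] [Module B M] [IsScalarTower k B M]
    [HopfRep.Comod k A M] [TameAct.IsHopfMod k A B M]
    (α : A →ₗ[k] B)

/-- `m ⊗ a ↦ α a • m` -/
noncomputable def L0 : M ⊗[k] A →ₗ[k] M :=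
  TensorProduct.lift ((Algebra.lsmul k k M : B →ₐ[k] Module.End k M).toLinearMap ∘ₗ α).flip

omit [HopfRep.Comod k A B] [HopfRep.Comod k A M] [TameAct.IsHopfMod k A B M] in
@[simp] theorem L0_tmul (m : M) (a : A) : L0 k A B M α (m ⊗ₜ[k] a) = α a • m := by
  simp [L0]

theorem coact_comp_L0 (hα : Hoch.IsComodHom A α) :
    HopfRep.Comod.coact (k := k) (A := A) (V := M) ∘ₗ L0 k A B M α =
      (L0 k A B M α).rTensor A ∘ₗ coactDiag k A M := by
  ext m a
  simp only [TensorProduct.AlgebraTensorModule.curry_apply, TensorProduct.curry_apply,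
    LinearMap.coe_restrictScalars, LinearMap.comp_apply, L0_tmul, coactDiag, TT_tmul,
    LinearEquiv.coe_coe]
  rw [TameAct.IsHopfMod.coact_smul (k := k) (A := A)]
  have h1 : HopfRep.Comod.coact (k := k) (A := A) (α a) =
      α.rTensor A (CoalgebraStruct.comul (R := k) a) := LinearMap.congr_fun hα a
  rw [h1]
  generalize HopfRep.Comod.coact (k := k) (A := A) m = z
  induction z using TensorProduct.induction_on with
  | zero => simp
  | tmul m' x =>
    simp only [TensorProduct.assoc_tmul, LinearMap.lTensor_tmul, dmap, LinearMap.comp_apply,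
      LinearEquiv.coe_coe]
    generalize CoalgebraStruct.comul (R := k) a = w
    induction w using TensorProduct.induction_on with
    | zero => simp
    | tmul c c' => simp [mul_comm]
    | add p q hp hq =>
      simp only [TensorProduct.tmul_add, map_add, hp, hq, LinearMap.add_apply]
  | add p q hp hq => simp only [TensorProduct.add_tmul, map_add, hp, hq]

omit [HopfRep.Comod k A B] [TameAct.IsHopfMod k A B M] in
theorem reynolds_eq (m : M) :
    TameAct.reynolds k A B M α m = L0 k A B M α (sh' k A M (m ⊗ₜ[k] (1 : A))) := by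
  unfold TameAct.reynolds sh'
  rw [LinearMap.comp_apply, TT_tmul]
  generalize HopfRep.Comod.coact (k := k) (A := A) m = z
  induction z using TensorProduct.induction_on with
  | zero => simp
  | tmul m' x => simp [smulS]
  | add p q hp hq => simp only [TensorProduct.add_tmul, map_add, hp, hq]

theorem reynolds_mem_fixedPts (hα : Hoch.IsComodHom A α) (m : M) :
    TameAct.reynolds k A B M α m ∈ HopfRep.fixedPts k A M := by
  show HopfRep.Comod.coact (k := k) (A := A) (TameAct.reynolds k A B M α m) =
    TameAct.reynolds k A B M α m ⊗ₜ[k] (1 : A)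
  rw [reynolds_eq]
  have h1 := LinearMap.congr_fun (coact_comp_L0 k A B M α hα) (sh' k A M (m ⊗ₜ[k] (1 : A)))
  have h2 := LinearMap.congr_fun (coactDiag_comp_sh' k A M) (m ⊗ₜ[k] (1 : A))
  simp only [LinearMap.comp_apply] at h1 h2
  rw [h1, h2, Hoch.Ind.coactAux_tmul, Bialgebra.comul_one, Algebra.TensorProduct.one_def]
  simp

omit [HopfRep.Comod k A B] [TameAct.IsHopfMod k A B M] in
theorem reynolds_of_mem_fixedPts (hα1 : α 1 = 1) (m : M) (hm : m ∈ HopfRep.fixedPts k A M) :
    TameAct.reynolds k A B M α m = m := by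
  have hm' : HopfRep.Comod.coact (k := k) (A := A) m = m ⊗ₜ[k] (1 : A) := hm
  rw [TameAct.reynolds_apply_of_coact_eq k A B M α m m 1 hm', HopfAlgebra.antipode_one, hα1,
    one_smul]

end Rey

section Nat

variable (k : Type u) [CommRing k] (A : Type v) [CommRing A] [HopfAlgebra k A]
    (B : Type w) [CommRing B] [Algebra k B]
    (M : Type w') [AddCommGroup M] [Module k M] [Module B M] [IsScalarTower k B M]
    [HopfRep.Comod k A M]
    (N : Type w'') [AddCommGroup N] [Module k N] [Module B N] [IsScalarTower k B N]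
    [HopfRep.Comod k A N]
    (α : A →ₗ[k] B)

theorem reynolds_natural (f : M →ₗ[B] N) (hf : Hoch.IsComodHom A (f.restrictScalars k)) (m : M) :
    TameAct.reynolds k A B N α (f m) = f (TameAct.reynolds k A B M α m) := by
  unfold TameAct.reynolds
  rw [LinearMap.comp_apply, LinearMap.comp_apply]
  have h1 : HopfRep.Comod.coact (k := k) (A := A) (f m) =
      (f.restrictScalars k).rTensor A (HopfRep.Comod.coact (k := k) (A := A) m) :=
    LinearMap.congr_fun hf m
  rw [h1]
  generalize HopfRep.Comod.coact (k := k) (A := A) m = z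
  induction z using TensorProduct.induction_on with
  | zero => simp
  | tmul m' x => simp
  | add p q hp hq => simp only [map_add, hp, hq]

end Nat

section SelfMod

variable (k : Type u) [CommRing k] (A : Type v) [CommRing A] [Bialgebra k A]
    (B : Type w) [CommRing B] [Algebra k B] [HopfRep.Comod k A B] [GLin.IsCoactAlg k A B]

omit [HopfRep.Comod k A B] [GLin.IsCoactAlg k A B] in
theorem hmSMul_self (z w : B ⊗[k] A) : TameAct.hmSMul k A B B z w = z * w := by
  induction z using TensorProduct.induction_on with
  | zero => simp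
  | tmul b a =>
    induction w using TensorProduct.induction_on with
    | zero => simp
    | tmul b' a' => simp
    | add p q hp hq => simp only [map_add, hp, hq, mul_add]
  | add p q hp hq => simp only [map_add, LinearMap.add_apply, hp, hq, add_mul]

theorem isHopfMod_self : TameAct.IsHopfMod k A B B where
  coact_smul b m := by
    rw [hmSMul_self, smul_eq_mul, GLin.IsCoactAlg.coact_mul (k := k) (A := A)]

end SelfMod

section Retract

variable (k : Type u) [CommRing k] (A : Type v) [CommRing A] [HopfAlgebra k A]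
    (B : Type w) [CommRing B] [Algebra k B] [HopfRep.Comod k A B] [GLin.IsCoactAlg k A B]
    (α : A →ₗ[k] B)

/-- the retraction `b ⊗ a ↦ Σ b₀ α (S b₁ a)` of the coaction, on the plain tensor product -/
noncomputable def retr : B ⊗[k] A →ₗ[k] B := L0 k A B B α ∘ₗ sh' k A B

theorem coact_comp_retr (hα : Hoch.IsComodHom A α) :
    HopfRep.Comod.coact (k := k) (A := A) (V := B) ∘ₗ retr k A B α =
      (retr k A B α).rTensor A ∘ₗ Hoch.Ind.coactAux k A B := by
  have := isHopfMod_self k A B
  unfold retr
  rw [← LinearMap.comp_assoc, coact_comp_L0 k A B B α hα, LinearMap.comp_assoc,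
    coactDiag_comp_sh', ← LinearMap.comp_assoc, ← LinearMap.rTensor_comp]

omit [GLin.IsCoactAlg k A B] in
theorem retr_comp_coact (hα1 : α 1 = 1) :
    retr k A B α ∘ₗ HopfRep.Comod.coact (k := k) (A := A) (V := B) = LinearMap.id := by
  ext b
  simp only [retr, LinearMap.comp_apply, sh'_coact, L0_tmul, hα1, one_smul, LinearMap.id_apply]

theorem exists_integral_of_retr
    (lam : B ⊗[k] A →ₗ[k] B)
    (hlam' : HopfRep.Comod.coact (k := k) (A := A) (V := B) ∘ₗ lam =
        lam.rTensor A ∘ₗ Hoch.Ind.coactAux k A B)
    (hlam1' : ∀ b : B, lam (HopfRep.Comod.coact (k := k) (A := A) b) = b) :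
    ∃ α : A →ₗ[k] B, Hoch.IsComodHom A α ∧ α 1 = 1 := by
  refine ⟨lam ∘ₗ (TensorProduct.mk k B A 1 : A →ₗ[k] B ⊗[k] A), ?_, ?_⟩
  · apply LinearMap.ext
    intro a
    have h1 := LinearMap.congr_fun hlam' ((1 : B) ⊗ₜ[k] a)
    simp only [LinearMap.comp_apply, Hoch.Ind.coactAux_tmul] at h1
    simp only [LinearMap.comp_apply, TensorProduct.mk_apply]
    rw [h1]
    show _ = (lam ∘ₗ (TensorProduct.mk k B A 1 : A →ₗ[k] B ⊗[k] A)).rTensor A
      (CoalgebraStruct.comul (R := k) a)
    generalize CoalgebraStruct.comul (R := k) a = w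
    induction w using TensorProduct.induction_on with
    | zero => simp
    | tmul c c' => simp
    | add p q hp hq => simp only [TensorProduct.tmul_add, map_add, hp, hq]
  · have := hlam1' 1
    rw [GLin.IsCoactAlg.coact_one (k := k) (A := A) (R := B), Algebra.TensorProduct.one_def] at this
    simpa using this

end Retract

end Groth.Agent.H64
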