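import Groth.Agent.H64.Comod

set_option autoImplicit false
universe u v w w' x y z
open HopfRep TensorProduct

namespace Groth.Agent.H64

section TF

variable {k : Type u} [CommRing k] {A : Type v} [AddCommGroup A] [Module k A] [Coalgebra k A]
    (V : Type w) [AddCommGroup V] [Module k V] [HopfRep.Comod k A V]
    {X : Type x} [AddCommGroup X] [Module k X]
    {Y : Type y} [AddCommGroup Y] [Module k Y]
    {Z : Type z} [AddCommGroup Z] [Module k Z]

/-- `v ⊗ ξ ↦ Σ v₀ ⊗ f (v₁ ⊗ ξ)` -/
noncomputable def TT (f : A ⊗[k] X →ₗ[k] Y) : V ⊗[k] X →ₗ[k] V ⊗[k] Y :=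
  f.lTensor V ∘ₗ (TensorProduct.assoc k V A X).toLinearMap ∘ₗ
    (HopfRep.Comod.coact (k := k) (A := A) (V := V)).rTensor X

theorem TT_tmul (f : A ⊗[k] X →ₗ[k] Y) (v : V) (ξ : X) :
    TT V f (v ⊗ₜ[k] ξ) = f.lTensor V (TensorProduct.assoc k V A X
      (HopfRep.Comod.coact (k := k) (A := A) v ⊗ₜ[k] ξ)) := rfl

/-- `(f ⋆ g) (a ⊗ ξ) = Σ f (a₁ ⊗ g (a₂ ⊗ ξ))` -/
noncomputable def star (f : A ⊗[k] Y →ₗ[k] Z) (g : A ⊗[k] X →ₗ[k] Y) : A ⊗[k] X →ₗ[k] Z :=
  f ∘ₗ g.lTensor A ∘ₗ (TensorProduct.assoc k A A X).toLinearMap ∘ₗ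
    (CoalgebraStruct.comul (R := k) (A := A)).rTensor X

theorem star_tmul (f : A ⊗[k] Y →ₗ[k] Z) (g : A ⊗[k] X →ₗ[k] Y) (a : A) (ξ : X) :
    star f g (a ⊗ₜ[k] ξ) = f (g.lTensor A (TensorProduct.assoc k A A X
      (CoalgebraStruct.comul (R := k) a ⊗ₜ[k] ξ))) := rfl

theorem TT_comp (f : A ⊗[k] Y →ₗ[k] Z) (g : A ⊗[k] X →ₗ[k] Y) :
    TT V f ∘ₗ TT V g = TT V (star f g) := by
  ext v ξ
  simp only [TensorProduct.AlgebraTensorModule.curry_apply, TensorProduct.curry_apply,
    LinearMap.coe_restrictScalars, LinearMap.comp_apply, TT_tmul]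
  -- the auxiliary map `(v'' ⊗ y) ⊗ x ↦ v'' ⊗ f (y ⊗ g (x ⊗ ξ))`
  set H₁ : (V ⊗[k] A) ⊗[k] A →ₗ[k] V ⊗[k] Z :=
    (f ∘ₗ (g ∘ₗ (TensorProduct.mk k A X).flip ξ).lTensor A).lTensor V ∘ₗ
      (TensorProduct.assoc k V A A).toLinearMap with hH₁
  have ha : ∀ z : V ⊗[k] A, TT V f (g.lTensor V (TensorProduct.assoc k V A X (z ⊗ₜ[k] ξ))) =
      H₁ ((HopfRep.Comod.coact (k := k) (A := A) (V := V)).rTensor A z) := by
    intro z
    induction z using TensorProduct.induction_on with
    | zero => simp
    | tmul v' a =>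
      simp only [TensorProduct.assoc_tmul, LinearMap.lTensor_tmul, TT_tmul, LinearMap.rTensor_tmul]
      generalize HopfRep.Comod.coact (k := k) (A := A) v' = z'
      induction z' using TensorProduct.induction_on with
      | zero => simp
      | tmul v'' b => simp [hH₁]
      | add p q hp hq => simp only [TensorProduct.add_tmul, map_add, hp, hq]
    | add p q hp hq => simp only [TensorProduct.add_tmul, map_add, hp, hq]
  have hb : ∀ z : V ⊗[k] A, (star f g).lTensor V (TensorProduct.assoc k V A X (z ⊗ₜ[k] ξ)) =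
      H₁ ((TensorProduct.assoc k V A A).symm
        ((CoalgebraStruct.comul (R := k) (A := A)).lTensor V z)) := by
    intro z
    induction z using TensorProduct.induction_on with
    | zero => simp
    | tmul v' a =>
      simp only [TensorProduct.assoc_tmul, LinearMap.lTensor_tmul, star_tmul]
      generalize CoalgebraStruct.comul (R := k) a = w
      induction w using TensorProduct.induction_on with
      | zero => simp
      | tmul b c => simp [hH₁]
      | add p q hp hq => simp only [TensorProduct.add_tmul, TensorProduct.tmul_add, map_add, hp, hq]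
    | add p q hp hq => simp only [TensorProduct.add_tmul, map_add, hp, hq]
  rw [ha, hb]
  have hc := LinearMap.congr_fun (rTensor_coact_comp_coact k A V) v
  simp only [LinearMap.comp_apply, LinearEquiv.coe_coe] at hc
  rw [hc]

theorem TT_counit :
    TT V ((TensorProduct.lid k X).toLinearMap ∘ₗ (Coalgebra.counit (R := k) (A := A)).rTensor X) =
      LinearMap.id := by
  ext v ξ
  simp only [TensorProduct.AlgebraTensorModule.curry_apply, TensorProduct.curry_apply,
    LinearMap.coe_restrictScalars, TT_tmul, LinearMap.id_apply]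
  have hz : ∀ z : V ⊗[k] A,
      ((TensorProduct.lid k X).toLinearMap ∘ₗ (Coalgebra.counit (R := k) (A := A)).rTensor X).lTensor V
        (TensorProduct.assoc k V A X (z ⊗ₜ[k] ξ)) =
      (TensorProduct.rid k V ((Coalgebra.counit (R := k) (A := A)).lTensor V z)) ⊗ₜ[k] ξ := by
    intro z
    induction z using TensorProduct.induction_on with
    | zero => simp
    | tmul v' a => simp [TensorProduct.smul_tmul]
    | add p q hp hq => simp only [TensorProduct.add_tmul, map_add, hp, hq]
  rw [hz]
  have := LinearMap.congr_fun (HopfRep.Comod.counit_comp (k := k) (A := A) (V := V)) v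
  simp only [LinearMap.comp_apply] at this
  rw [this]
  simp

theorem lTensor_comp_TT (h : Y →ₗ[k] Z) (f : A ⊗[k] X →ₗ[k] Y) :
    h.lTensor V ∘ₗ TT V f = TT V (h ∘ₗ f) := by
  unfold TT
  rw [← LinearMap.comp_assoc, ← LinearMap.lTensor_comp]

end TF

section TF2

variable {k : Type u} [CommRing k] {A : Type v} [AddCommGroup A] [Module k A] [Coalgebra k A]
    (V : Type w) [AddCommGroup V] [Module k V] [HopfRep.Comod k A V]
    {X : Type x} [AddCommGroup X] [Module k X]
    {Y : Type y} [AddCommGroup Y] [Module k Y]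
    (W : Type z) [AddCommGroup W] [Module k W]

theorem rTensor_TT_comp_assoc_symm (f : A ⊗[k] X →ₗ[k] Y) :
    (TT V f).rTensor W ∘ₗ (TensorProduct.assoc k V X W).symm.toLinearMap =
      (TensorProduct.assoc k V Y W).symm.toLinearMap ∘ₗ
        TT V (f.rTensor W ∘ₗ (TensorProduct.assoc k A X W).symm.toLinearMap) := by
  ext v ξ w
  simp only [TensorProduct.AlgebraTensorModule.curry_apply, TensorProduct.curry_apply,
    LinearMap.coe_restrictScalars, LinearMap.comp_apply, LinearEquiv.coe_coe,
    TensorProduct.assoc_symm_tmul, LinearMap.rTensor_tmul, TT_tmul]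
  generalize HopfRep.Comod.coact (k := k) (A := A) v = z'
  induction z' using TensorProduct.induction_on with
  | zero => simp
  | tmul v' a => simp
  | add p q hp hq => simp only [TensorProduct.add_tmul, map_add, hp, hq]

theorem TT_comp_lTensor (f : A ⊗[k] Y →ₗ[k] W) (g : X →ₗ[k] Y) :
    TT V f ∘ₗ g.lTensor V = TT V (f ∘ₗ g.lTensor A) := by
  ext v ξ
  simp only [TensorProduct.AlgebraTensorModule.curry_apply, TensorProduct.curry_apply,
    LinearMap.coe_restrictScalars, LinearMap.comp_apply, LinearMap.lTensor_tmul, TT_tmul]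
  generalize HopfRep.Comod.coact (k := k) (A := A) v = z'
  induction z' using TensorProduct.induction_on with
  | zero => simp
  | tmul v' a => simp
  | add p q hp hq => simp only [TensorProduct.add_tmul, map_add, hp, hq]

end TF2

section ShearDefs

variable (k : Type u) [CommRing k] (A : Type v) [CommRing A] [HopfAlgebra k A]
    (V : Type w) [AddCommGroup V] [Module k V] [HopfRep.Comod k A V]

/-- `x ⊗ a ↦ S x * a` -/
noncomputable def smulS : A ⊗[k] A →ₗ[k] A :=
  LinearMap.mul' k A ∘ₗ (HopfAlgebraStruct.antipode (R := k) (A := A)).rTensor A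

/-- the shear map `v ⊗ a ↦ Σ v₀ ⊗ v₁ a` -/
noncomputable def sh : V ⊗[k] A →ₗ[k] V ⊗[k] A := TT V (LinearMap.mul' k A)

/-- the inverse shear map `v ⊗ a ↦ Σ v₀ ⊗ S v₁ a` -/
noncomputable def sh' : V ⊗[k] A →ₗ[k] V ⊗[k] A := TT V (smulS k A)

theorem star_smulS_mul :
    star (smulS k A) (LinearMap.mul' k A) =
      (TensorProduct.lid k A).toLinearMap ∘ₗ (Coalgebra.counit (R := k) (A := A)).rTensor A := by
  ext a b
  simp only [TensorProduct.AlgebraTensorModule.curry_apply, TensorProduct.curry_apply,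
    LinearMap.coe_restrictScalars, star_tmul, LinearMap.comp_apply, LinearMap.rTensor_tmul,
    LinearEquiv.coe_coe, TensorProduct.lid_tmul]
  have h := HopfAlgebra.mul_antipode_rTensor_comul_apply (R := k) a
  have key : ∀ w : A ⊗[k] A, smulS k A ((LinearMap.mul' k A).lTensor A
      (TensorProduct.assoc k A A A (w ⊗ₜ[k] b))) =
      LinearMap.mul' k A ((HopfAlgebraStruct.antipode (R := k) (A := A)).rTensor A w) * b := by
    intro w
    induction w using TensorProduct.induction_on with
    | zero => simp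
    | tmul c d => simp [smulS, mul_assoc]
    | add p q hp hq => simp only [TensorProduct.add_tmul, map_add, hp, hq, add_mul]
  rw [key, h, Algebra.smul_def]

theorem star_mul_smulS :
    star (LinearMap.mul' k A) (smulS k A) =
      (TensorProduct.lid k A).toLinearMap ∘ₗ (Coalgebra.counit (R := k) (A := A)).rTensor A := by
  ext a b
  simp only [TensorProduct.AlgebraTensorModule.curry_apply, TensorProduct.curry_apply,
    LinearMap.coe_restrictScalars, star_tmul, LinearMap.comp_apply, LinearMap.rTensor_tmul,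
    LinearEquiv.coe_coe, TensorProduct.lid_tmul]
  have h := HopfAlgebra.mul_antipode_lTensor_comul_apply (R := k) a
  have key : ∀ w : A ⊗[k] A, LinearMap.mul' k A ((smulS k A).lTensor A
      (TensorProduct.assoc k A A A (w ⊗ₜ[k] b))) =
      LinearMap.mul' k A ((HopfAlgebraStruct.antipode (R := k) (A := A)).lTensor A w) * b := by
    intro w
    induction w using TensorProduct.induction_on with
    | zero => simp
    | tmul c d => simp [smulS, mul_assoc]
    | add p q hp hq => simp only [TensorProduct.add_tmul, map_add, hp, hq, add_mul]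
  rw [key, h, Algebra.smul_def]

theorem sh'_comp_sh : sh' k A V ∘ₗ sh k A V = LinearMap.id := by
  unfold sh sh'
  rw [TT_comp, star_smulS_mul, TT_counit]

theorem sh_comp_sh' : sh k A V ∘ₗ sh' k A V = LinearMap.id := by
  unfold sh sh'
  rw [TT_comp, star_mul_smulS, TT_counit]

end ShearDefs

section Diag

variable (k : Type u) [CommRing k] (A : Type v) [CommRing A] [HopfAlgebra k A]
    (V : Type w) [AddCommGroup V] [Module k V] [HopfRep.Comod k A V]

/-- `x ⊗ a ↦ Σ a₁ ⊗ x a₂` -/
noncomputable def dmap : A ⊗[k] A →ₗ[k] A ⊗[k] A :=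
  (LinearMap.mul' k A).lTensor A ∘ₗ (TensorProduct.leftComm k A A A).toLinearMap ∘ₗ
    (CoalgebraStruct.comul (R := k) (A := A)).lTensor A

/-- the diagonal coaction on `V ⊗ A`: `v ⊗ a ↦ Σ (v₀ ⊗ a₁) ⊗ v₁ a₂` -/
noncomputable def coactDiag : V ⊗[k] A →ₗ[k] (V ⊗[k] A) ⊗[k] A :=
  (TensorProduct.assoc k V A A).symm.toLinearMap ∘ₗ TT V (dmap k A)

theorem comul_comp_mul :
    (CoalgebraStruct.comul (R := k) (A := A)) ∘ₗ LinearMap.mul' k A =
      star ((LinearMap.mul' k A).rTensor A ∘ₗ (TensorProduct.assoc k A A A).symm.toLinearMap)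
        (dmap k A) := by
  ext a b
  simp only [TensorProduct.AlgebraTensorModule.curry_apply, TensorProduct.curry_apply,
    LinearMap.coe_restrictScalars, star_tmul, LinearMap.comp_apply, LinearMap.mul'_apply,
    LinearEquiv.coe_coe]
  rw [Bialgebra.comul_mul]
  have key : ∀ w : A ⊗[k] A, (LinearMap.mul' k A).rTensor A ((TensorProduct.assoc k A A A).symm
      ((dmap k A).lTensor A (TensorProduct.assoc k A A A (w ⊗ₜ[k] b)))) =
      w * CoalgebraStruct.comul (R := k) b := by
    intro w
    induction w using TensorProduct.induction_on with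
    | zero => simp
    | tmul c d =>
      simp only [TensorProduct.assoc_tmul, LinearMap.lTensor_tmul, dmap, LinearMap.comp_apply,
        LinearEquiv.coe_coe]
      generalize CoalgebraStruct.comul (R := k) b = w'
      induction w' using TensorProduct.induction_on with
      | zero => simp
      | tmul e f => simp
      | add p q hp hq => simp only [TensorProduct.tmul_add, map_add, hp, hq, mul_add]
    | add p q hp hq => simp only [TensorProduct.add_tmul, map_add, hp, hq, add_mul]
  rw [key]

theorem coactAux_comp_sh :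
    Hoch.Ind.coactAux k A V ∘ₗ sh k A V = (sh k A V).rTensor A ∘ₗ coactDiag k A V := by
  unfold sh coactDiag
  rw [← LinearMap.comp_assoc, rTensor_TT_comp_assoc_symm, LinearMap.comp_assoc, TT_comp,
    ← comul_comp_mul, ← lTensor_comp_TT]
  rfl

theorem coactDiag_comp_sh' :
    coactDiag k A V ∘ₗ sh' k A V = (sh' k A V).rTensor A ∘ₗ Hoch.Ind.coactAux k A V := by
  have h1 : (sh' k A V).rTensor A ∘ₗ (sh k A V).rTensor A = LinearMap.id := by
    rw [← LinearMap.rTensor_comp, sh'_comp_sh, LinearMap.rTensor_id]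
  calc coactDiag k A V ∘ₗ sh' k A V
      = ((sh' k A V).rTensor A ∘ₗ (sh k A V).rTensor A) ∘ₗ coactDiag k A V ∘ₗ sh' k A V := by
        rw [h1, LinearMap.id_comp]
    _ = (sh' k A V).rTensor A ∘ₗ ((sh k A V).rTensor A ∘ₗ coactDiag k A V) ∘ₗ sh' k A V := by
        simp only [LinearMap.comp_assoc]
    _ = (sh' k A V).rTensor A ∘ₗ Hoch.Ind.coactAux k A V ∘ₗ (sh k A V ∘ₗ sh' k A V) := by
        rw [← coactAux_comp_sh]; simp only [LinearMap.comp_assoc]
    _ = (sh' k A V).rTensor A ∘ₗ Hoch.Ind.coactAux k A V := by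
        rw [sh_comp_sh', LinearMap.comp_id]

theorem sh_tmul_one (v : V) :
    sh k A V (v ⊗ₜ[k] (1 : A)) = HopfRep.Comod.coact (k := k) (A := A) v := by
  unfold sh
  rw [TT_tmul]
  generalize HopfRep.Comod.coact (k := k) (A := A) v = z'
  induction z' using TensorProduct.induction_on with
  | zero => simp
  | tmul v' a => simp
  | add p q hp hq => simp only [TensorProduct.add_tmul, map_add, hp, hq]

theorem sh'_coact (v : V) :
    sh' k A V (HopfRep.Comod.coact (k := k) (A := A) v) = v ⊗ₜ[k] (1 : A) := by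
  rw [← sh_tmul_one, ← LinearMap.comp_apply, sh'_comp_sh, LinearMap.id_apply]

end Diag

end Groth.Agent.H64
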