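import Groth.Prelude.Def_W4c1tameactTame
import Groth.Agent.H83.RDual
import Mathlib.RingTheory.Flat.Basic
import Mathlib.RingTheory.Noetherian.Defs
import Mathlib.Algebra.Module.Projective
import Mathlib.Algebra.Module.FinitePresentation

set_option autoImplicit false
universe u

namespace Groth.Agent.H64

open TensorProduct Groth.Agent.H83

section TI

variable {k : Type u} [CommRing k] {A : Type u} [CommRing A] [HopfAlgebra k A]
  {B : Type u} [CommRing B] [Algebra k B]

/-- evaluation at `1`: `B ⊗ A^* → B`, `b ⊗ φ ↦ φ 1 • b` -/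
noncomputable def evOne (k : Type u) [CommRing k] (A : Type u) [CommRing A] [HopfAlgebra k A]
    (B : Type u) [CommRing B] [Algebra k B] : B ⊗[k] Module.Dual k A →ₗ[k] B :=
  (LinearMap.applyₗ (1 : A)) ∘ₗ ev A B

@[simp] theorem evOne_tmul (b : B) (φ : Module.Dual k A) :
    evOne k A B (b ⊗ₜ[k] φ) = φ 1 • b := by
  simp [evOne]

theorem evOne_apply (x : B ⊗[k] Module.Dual k A) : evOne k A B x = ev A B x 1 := rfl

theorem evOne_smul (b : B) (x : B ⊗[k] Module.Dual k A) :
    evOne k A B (b • x) = b • evOne k A B x := by
  induction x using TensorProduct.induction_on with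
  | zero => simp
  | tmul b' φ =>
    rw [TensorProduct.smul_tmul', evOne_tmul, evOne_tmul, smul_eq_mul, smul_eq_mul, mul_smul_comm]
  | add x y hx hy => simp only [smul_add, map_add, hx, hy]

/-- evaluation at `1` as a `B`-linear map -/
noncomputable def evOneB (k : Type u) [CommRing k] (A : Type u) [CommRing A] [HopfAlgebra k A]
    (B : Type u) [CommRing B] [Algebra k B] : B ⊗[k] Module.Dual k A →ₗ[B] B where
  toFun := evOne k A B
  map_add' := (evOne k A B).map_add
  map_smul' := evOne_smul

theorem evOneB_restrictScalars : (evOneB k A B).restrictScalars k = evOne k A B := rfl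

theorem evOneB_surjective : Function.Surjective (evOneB k A B) := by
  intro b
  refine ⟨b ⊗ₜ[k] (CoalgebraStruct.counit (R := k) (A := A)), ?_⟩
  change evOne k A B _ = b
  rw [evOne_tmul, Bialgebra.counit_one, one_smul]

theorem evA_apply_one (w : (B ⊗[k] Module.Dual k A) ⊗[k] A) :
    evA k A B A w 1 = (evOne k A B).rTensor A w := by
  induction w using TensorProduct.induction_on with
  | zero => simp
  | tmul x a =>
    induction x using TensorProduct.induction_on with
    | zero => simp
    | tmul b φ => simp [TensorProduct.smul_tmul']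
    | add x y hx hy => simp only [TensorProduct.add_tmul, map_add, LinearMap.add_apply, hx, hy]
  | add x y hx hy => simp only [map_add, LinearMap.add_apply, hx, hy]

theorem thetaS_regular_one (g : A →ₗ[k] B ⊗[k] A) :
    thetaS (HopfRep.Comod.regular k A) g 1 = g 1 := by
  change rmul k A B (g.rTensor A ((HopfAlgebra.antipode k (A := A)).lTensor A
    (CoalgebraStruct.comul (R := k) (A := A) (1 : A)))) = g 1
  rw [Bialgebra.comul_one, Algebra.TensorProduct.one_def, LinearMap.lTensor_tmul,
    HopfAlgebra.antipode_one, LinearMap.rTensor_tmul, rmul_one]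

variable [Module.Flat k A] [Module.FinitePresentation k A]

theorem evOne_isComodHom (cB : HopfRep.Comod k A B) :
    @Hoch.IsComodHom k _ A _ _ _ (B ⊗[k] Module.Dual k A) _ _
      (ComodTens.Comod.tensor cB (rdualComod (HopfRep.Comod.regular k A))) B _ _ cB
      (evOne k A B) := by
  change cB.coact ∘ₗ evOne k A B = (evOne k A B).rTensor A ∘ₗ
    (ComodTens.Comod.tensor cB (rdualComod (HopfRep.Comod.regular k A))).coact
  apply LinearMap.ext
  intro x
  rw [LinearMap.comp_apply, LinearMap.comp_apply, ← evA_apply_one,
    evA_tensor_coact cB (HopfRep.Comod.regular k A) _ (rdualComod_isDual _) x, thetaS_regular_one]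
  rfl

/-- the (⇒) half of `fixed_iff_isComodHom`, which needs no flatness of `B` -/
theorem isComodHom_ev_of_fixed (cB : HopfRep.Comod k A B)
    (x : B ⊗[k] Module.Dual k A)
    (hfix : (ComodTens.Comod.tensor cB (rdualComod (HopfRep.Comod.regular k A))).coact x =
      x ⊗ₜ[k] (1 : A)) :
    cB.coact ∘ₗ ev A B x = (ev A B x).rTensor A ∘ₗ (HopfRep.Comod.regular k A).coact := by
  have e2 : evA k A B A (x ⊗ₜ[k] (1 : A)) =
      thetaS (HopfRep.Comod.regular k A) ((ev A B x).rTensor A ∘ₗ (HopfRep.Comod.regular k A).coact) :=
    LinearMap.ext fun m => by rw [evA_tmul_one, thetaS_rTensor_coact]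
  have e1 := evA_tensor_coact cB (HopfRep.Comod.regular k A) _ (rdualComod_isDual _) x
  rw [hfix] at e1
  have e3 := congrArg (theta (HopfRep.Comod.regular k A)) (e1.symm.trans e2)
  rwa [theta_thetaS, theta_thetaS] at e3

end TI

section HM

variable {k : Type u} [CommRing k] {A : Type u} [CommRing A] [Bialgebra k A]
  {B : Type u} [CommRing B] [Algebra k B]

theorem hmSMul_self (y y' : B ⊗[k] A) : TameAct.hmSMul k A B B y y' = y * y' := by
  induction y using TensorProduct.induction_on with
  | zero => simp
  | tmul b a =>
    induction y' using TensorProduct.induction_on with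
    | zero => simp
    | tmul b' a' => simp
    | add x y hx hy => simp only [map_add, mul_add, hx, hy]
  | add x y hx hy => simp only [map_add, LinearMap.add_apply, add_mul, hx, hy]

theorem isHopfMod_self [HopfRep.Comod k A B] [GLin.IsCoactAlg k A B] :
    TameAct.IsHopfMod k A B B := by
  constructor
  intro b m
  rw [hmSMul_self, smul_eq_mul, GLin.IsCoactAlg.coact_mul]

variable {W : Type u} [AddCommGroup W] [Module k W]

theorem tensor_mul_aux (y y' : B ⊗[k] A) (z : W ⊗[k] A) :
    TensorProduct.map LinearMap.id (LinearMap.mul' k A)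
      (AlgebraTensorModule.tensorTensorTensorComm k k k k B A W A ((y * y') ⊗ₜ[k] z)) =
    TameAct.hmSMul k A B (B ⊗[k] W) y
      (TensorProduct.map LinearMap.id (LinearMap.mul' k A)
        (AlgebraTensorModule.tensorTensorTensorComm k k k k B A W A (y' ⊗ₜ[k] z))) := by
  induction y using TensorProduct.induction_on with
  | zero => simp
  | tmul b a =>
    induction y' using TensorProduct.induction_on with
    | zero => simp
    | tmul b' a' =>
      induction z using TensorProduct.induction_on with
      | zero => simp
      | tmul w a'' => simp [TensorProduct.smul_tmul', mul_assoc]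
      | add x y hx hy => simp only [TensorProduct.tmul_add, map_add, hx, hy]
    | add x y hx hy => simp only [mul_add, TensorProduct.add_tmul, map_add, hx, hy]
  | add x y hx hy => simp only [add_mul, TensorProduct.add_tmul, map_add, LinearMap.add_apply, hx, hy]

theorem isHopfMod_tensor (cB : HopfRep.Comod k A B) [GLin.IsCoactAlg k A B]
    (d : HopfRep.Comod k A W) :
    @TameAct.IsHopfMod k _ A _ _ B _ _ (B ⊗[k] W) _ _ _ _ cB (ComodTens.Comod.tensor cB d) := by
  letI : HopfRep.Comod k A (B ⊗[k] W) := ComodTens.Comod.tensor cB d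
  constructor
  intro b n
  induction n using TensorProduct.induction_on with
  | zero => simp
  | tmul b' w =>
    rw [TensorProduct.smul_tmul', smul_eq_mul]
    change (ComodTens.Comod.tensor cB d).coact ((b * b') ⊗ₜ[k] w) =
      TameAct.hmSMul k A B (B ⊗[k] W) (cB.coact b) ((ComodTens.Comod.tensor cB d).coact (b' ⊗ₜ[k] w))
    rw [ComodTens.tensor_coact_tmul, ComodTens.tensor_coact_tmul, GLin.IsCoactAlg.coact_mul,
      tensor_mul_aux]
  | add x y hx hy => simp only [smul_add, map_add, hx, hy]

end HM

end Groth.Agent.H64
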