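import Mathlib

set_option autoImplicit false
universe u v
open scoped BigOperators

namespace Groth.Agent.H64

section
variable {B : Type u} [CommRing B] {Γ : Type v} [Group Γ] [Fintype Γ] [MulSemiringAction Γ B]

/-- Dedekind independence argument: if all traces lie in the prime `P`, then the order of the
inertia group of `P` vanishes in `B ⧸ P`. -/
theorem card_inertia_eq_zero_of_trace_mem
    (P : Ideal B) [P.IsPrime] (h : ∀ c : B, ∑ γ : Γ, γ • c ∈ P) :
    ((Nat.card (P.inertia Γ) : ℕ) : B ⧸ P) = 0 := by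
  classical
  let ψ : Γ → (B →* (B ⧸ P)) := fun γ =>
    (Ideal.Quotient.mk P).toMonoidHom.comp (MulSemiringAction.toRingHom Γ B γ).toMonoidHom
  have hψ : ∀ γ c, ψ γ c = Ideal.Quotient.mk P (γ • c) := fun _ _ => rfl
  have hsum : ∀ c, ∑ γ, ψ γ c = 0 := by
    intro c
    simp only [hψ, ← map_sum]
    exact Ideal.Quotient.eq_zero_iff_mem.mpr (h c)
  have h2 : ∀ c, ∑ χ ∈ Finset.univ.image ψ,
      ((Finset.univ.filter (fun γ => ψ γ = χ)).card : B ⧸ P) * χ c = 0 := by
    intro c
    rw [← hsum c]
    have := Finset.sum_comp (s := Finset.univ) (f := fun χ : B →* (B ⧸ P) => χ c) (g := ψ)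
    rw [this]
    refine Finset.sum_congr rfl ?_
    intro χ _
    rw [nsmul_eq_mul]
  have hli := linearIndependent_monoidHom B (B ⧸ P)
  rw [linearIndependent_iff'] at hli
  have key := hli (Finset.univ.image ψ)
    (fun χ => ((Finset.univ.filter (fun γ => ψ γ = χ)).card : B ⧸ P)) (by
      funext c
      simpa [Finset.sum_apply] using h2 c) (ψ 1) (Finset.mem_image_of_mem _ (Finset.mem_univ _))
  have hcard : Nat.card (P.inertia Γ) = (Finset.univ.filter (fun γ => ψ γ = ψ 1)).card := by
    rw [Nat.card_eq_fintype_card, Fintype.card_subtype]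
    congr 1
    ext γ
    simp only [Finset.mem_filter, Finset.mem_univ, true_and]
    rw [AddSubgroup.mem_inertia]
    constructor
    · intro hγ
      ext c
      rw [hψ, hψ, one_smul]
      exact (Ideal.Quotient.eq).mpr (hγ c)
    · intro hγ c
      have := DFunLike.congr_fun hγ c
      rw [hψ, hψ, one_smul] at this
      exact (Ideal.Quotient.eq).mp this
  rw [hcard]
  exact key

end

end Groth.Agent.H64

namespace Groth.Agent.H64

section
variable {B : Type u} [CommRing B] {Γ : Type v} [Group Γ] [Fintype Γ] [MulSemiringAction Γ B]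

/-- If some element has trace one then the order of every inertia group is invertible in the
residue ring. -/
theorem card_inertia_ne_zero_of_trace_eq_one
    (P : Ideal B) [P.IsPrime] (b : B) (hb : ∑ γ : Γ, γ • b = 1) :
    ((Nat.card (P.inertia Γ) : ℕ) : B ⧸ P) ≠ 0 := by
  classical
  intro h0
  let ψ : Γ → (B →* (B ⧸ P)) := fun γ =>
    (Ideal.Quotient.mk P).toMonoidHom.comp (MulSemiringAction.toRingHom Γ B γ).toMonoidHom
  have hψ : ∀ γ c, ψ γ c = Ideal.Quotient.mk P (γ • c) := fun _ _ => rfl
  have hcard1 : Nat.card (P.inertia Γ) = (Finset.univ.filter (fun γ => ψ γ = ψ 1)).card := by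
    rw [Nat.card_eq_fintype_card, Fintype.card_subtype]
    congr 1
    ext γ
    simp only [Finset.mem_filter, Finset.mem_univ, true_and]
    rw [AddSubgroup.mem_inertia]
    constructor
    · intro hγ
      ext c
      rw [hψ, hψ, one_smul]
      exact (Ideal.Quotient.eq).mpr (hγ c)
    · intro hγ c
      have := DFunLike.congr_fun hγ c
      rw [hψ, hψ, one_smul] at this
      exact (Ideal.Quotient.eq).mp this
  have hfib : ∀ γ₀ : Γ, (Finset.univ.filter (fun γ => ψ γ = ψ γ₀)).card
      = (Finset.univ.filter (fun γ => ψ γ = ψ 1)).card := by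
    intro γ₀
    symm
    refine Finset.card_equiv (Equiv.mulRight γ₀) ?_
    intro γ
    simp only [Finset.mem_filter, Finset.mem_univ, true_and, Equiv.coe_mulRight]
    constructor
    · intro hγ
      ext c
      have := DFunLike.congr_fun hγ (γ₀ • c)
      rw [hψ, hψ, one_smul] at this
      rw [hψ, hψ, mul_smul]
      exact this
    · intro hγ
      ext c
      have := DFunLike.congr_fun hγ (γ₀⁻¹ • c)
      rw [hψ, hψ, mul_smul, smul_inv_smul] at this
      rw [hψ, hψ, one_smul]
      exact this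
  have h1 : (1 : B ⧸ P) = ∑ γ, ψ γ b := by
    simp only [hψ, ← map_sum, hb, map_one]
  have h2 : ∑ γ, ψ γ b = 0 := by
    have := Finset.sum_comp (s := Finset.univ) (f := fun χ : B →* (B ⧸ P) => χ b) (g := ψ)
    rw [this]
    refine Finset.sum_eq_zero ?_
    intro χ hχ
    obtain ⟨γ₀, -, rfl⟩ := Finset.mem_image.mp hχ
    rw [hfib γ₀, ← hcard1, nsmul_eq_mul, h0, zero_mul]
  exact one_ne_zero (h1.trans h2)

theorem exists_trace_eq_one_iff :
    (∃ b : B, ∑ γ : Γ, γ • b = 1) ↔
      ∀ P : Ideal B, P.IsPrime → ((Nat.card (P.inertia Γ) : ℕ) : B ⧸ P) ≠ 0 := by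
  constructor
  · rintro ⟨b, hb⟩ P hP
    exact card_inertia_ne_zero_of_trace_eq_one P b hb
  · intro h
    by_contra hne
    have hinv : Algebra.IsInvariant (FixedPoints.subring B Γ) B Γ :=
      ⟨fun b hb => ⟨⟨b, hb⟩, rfl⟩⟩
    have hint : Algebra.IsIntegral (FixedPoints.subring B Γ) B :=
      Algebra.IsInvariant.isIntegral (FixedPoints.subring B Γ) B Γ
    -- the trace as a linear map
    have htr_mem : ∀ b : B, ∑ γ : Γ, γ • b ∈ FixedPoints.subring B Γ := by
      intro b σ
      rw [Finset.smul_sum]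
      simp_rw [← mul_smul]
      exact Fintype.sum_equiv (Equiv.mulLeft σ) _ _ (fun _ => rfl)
    let tr : B →ₗ[FixedPoints.subring B Γ] (FixedPoints.subring B Γ) :=
      { toFun := fun b => ⟨∑ γ : Γ, γ • b, htr_mem b⟩
        map_add' := fun x y => by
          apply Subtype.ext
          simp [smul_add, Finset.sum_add_distrib]
        map_smul' := fun a x => by
          apply Subtype.ext
          have ha : ∀ γ : Γ, γ • (a : B) = a := fun γ => a.2 γ
          simp only [RingHom.id_apply]
          change ∑ γ : Γ, γ • ((a : B) * x) = (a : B) * ∑ γ : Γ, γ • x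
          rw [Finset.mul_sum]
          refine Finset.sum_congr rfl (fun γ _ => ?_)
          rw [smul_mul', ha] }
    have htr : ∀ b, ((tr b : FixedPoints.subring B Γ) : B) = ∑ γ : Γ, γ • b := fun _ => rfl
    let 𝔞 : Ideal (FixedPoints.subring B Γ) := LinearMap.range tr
    have h𝔞 : 𝔞 ≠ ⊤ := by
      intro htop
      have : (1 : FixedPoints.subring B Γ) ∈ 𝔞 := htop ▸ Submodule.mem_top
      obtain ⟨b, hb⟩ := this
      exact hne ⟨b, by rw [← htr, hb]; rfl⟩
    obtain ⟨𝔪, h𝔪, hle⟩ := Ideal.exists_le_maximal 𝔞 h𝔞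
    obtain ⟨Q, hQ, hQ𝔪⟩ := Ideal.exists_ideal_over_maximal_of_isIntegral (S := B) 𝔪 (by
      have : RingHom.ker (algebraMap (FixedPoints.subring B Γ) B) = ⊥ :=
        (RingHom.injective_iff_ker_eq_bot _).mp Subtype.val_injective
      rw [this]; exact bot_le)
    have hQp : Q.IsPrime := hQ.isPrime
    refine h Q hQp (card_inertia_eq_zero_of_trace_mem Q ?_)
    intro c
    have : tr c ∈ 𝔪 := hle ⟨c, rfl⟩
    rw [← hQ𝔪] at this
    exact this

end

end Groth.Agent.H64
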