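import Groth.Agent.H64.FPtFp

set_option autoImplicit false
universe u
open CategoryTheory CategoryTheory.Limits AlgebraicGeometry

namespace Groth.Agent.H64

open AlgSt Groth.Agent.H32

variable {S : Scheme.{u}} {𝒳 𝒴 𝒵 : BasedCategory.{u, u + 1} (Over S)}

theorem conj_eqToHom_aux {C : Type*} [Category C] {a a' b b' : C} (m : a ⟶ b) (ha : a = a')
    (hb : b = b') : m = eqToHom ha ≫ (eqToHom ha.symm ≫ m ≫ eqToHom hb) ≫ eqToHom hb.symm := by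
  subst ha; subst hb; simp

/-- if the diagonal of `f` is surjective on points, every base change of `f` is injective on
points -/
theorem injective_points_fpFst_of_surjective_diag (h𝒳 : FibCat.IsFibGrpd 𝒳.p)
    (h𝒴 : FibCat.IsFibGrpd 𝒴.p) (h𝒵 : FibCat.IsFibGrpd 𝒵.p) (f : 𝒳 ⥤ᵇ 𝒴) (g : 𝒵 ⥤ᵇ 𝒴)
    (hΔ : Function.Surjective (Points.map (FibCat.diag f))) :
    Function.Injective (Points.map (FibCat.fpFst g f)) := by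
  have hfp : FibCat.IsFibGrpd (FibCat.fp g f).p := isFibGrpd_fp g f h𝒵 h𝒳 h𝒴
  have hff : FibCat.IsFibGrpd (FibCat.fp f f).p := isFibGrpd_fp f f h𝒳 h𝒳 h𝒴
  intro w₁ w₂ h
  obtain ⟨ρ₁, rfl⟩ := Points.mk_surjective w₁
  obtain ⟨ρ₂, rfl⟩ := Points.mk_surjective w₂
  have hrel : FPt.Rel (ρ₁.map (FibCat.fpFst g f)) (ρ₂.map (FibCat.fpFst g f)) :=
    (fptRel_equivalence h𝒵).eqvGen_iff.mp (Quot.eqvGen_exact h)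
  obtain ⟨r, c₁, c₂, -⟩ := hrel
  obtain ⟨ζ₁, ψ₁, hζ₁, e₁, he₁⟩ := exists_pullback_fpt hfp h𝒵 (FibCat.fpFst g f) ρ₁ r c₁
  obtain ⟨ζ₂, ψ₂, hζ₂, e₂, he₂⟩ := exists_pullback_fpt hfp h𝒵 (FibCat.fpFst g f) ρ₂ r c₂
  -- notation: ζᵢ = (sᵢ, yᵢ, φᵢ)
  let V : Over S := Over.mk r.str
  have hs₁ : 𝒵.p.obj ζ₁.obj.fst = V := hζ₁
  have hs₂ : 𝒵.p.obj ζ₂.obj.fst = V := hζ₂
  have hy₁ : 𝒳.p.obj ζ₁.obj.snd = V := (fp_snd_obj_eq g f ζ₁).trans hs₁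
  have hy₂ : 𝒳.p.obj ζ₂.obj.snd = V := (fp_snd_obj_eq g f ζ₂).trans hs₂
  have hφ₁ : 𝒴.p.IsHomLift (𝟙 V) ζ₁.obj.iso.hom := lift_id_congr 𝒴.p (fp_iso_isHomLift g f ζ₁) hs₁
  have hφ₂ : 𝒴.p.IsHomLift (𝟙 V) ζ₂.obj.iso.hom := lift_id_congr 𝒴.p (fp_iso_isHomLift g f ζ₂) hs₂
  have hφ₁i : 𝒴.p.IsHomLift (𝟙 V) ζ₁.obj.iso.inv := lift_inv_of_iso 𝒴.p _ hφ₁
  have he₂i : 𝒵.p.IsHomLift (𝟙 V) e₂.inv := lift_inv_of_iso 𝒵.p _ he₂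
  have he₁₂ : 𝒵.p.IsHomLift (𝟙 V) (e₁.hom ≫ e₂.inv) := lift_id_comp_id 𝒵.p he₁ he₂i
  have hge : 𝒴.p.IsHomLift (𝟙 V) (g.map (e₁.hom ≫ e₂.inv)) :=
    (BasedFunctor.isHomLift_iff g _ _).mpr he₁₂
  -- the point of `𝒳 ×_𝒴 𝒳`
  let β : f.obj ζ₁.obj.snd ≅ f.obj ζ₂.obj.snd :=
    ζ₁.obj.iso.symm ≪≫ g.toFunctor.mapIso (e₁ ≪≫ e₂.symm) ≪≫ ζ₂.obj.iso
  have hβ : 𝒴.p.IsHomLift (𝟙 V) β.hom :=
    lift_id_comp_id 𝒴.p hφ₁i (lift_id_comp_id 𝒴.p hge hφ₂)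
  let ξ : (FibCat.fp f f).obj := ⟨⟨ζ₁.obj.snd, ζ₂.obj.snd, β⟩, lift_id_congr 𝒴.p hβ hy₁.symm⟩
  let πξ : FPt (FibCat.fp f f) := { K := r.K, str := r.str, obj := ξ, lies := hy₁ }
  obtain ⟨x, hx⟩ := hΔ (Points.mk πξ)
  obtain ⟨π, rfl⟩ := Points.mk_surjective x
  have hrel' : FPt.Rel (π.map (FibCat.diag f)) πξ :=
    (fptRel_equivalence hff).eqvGen_iff.mp (Quot.eqvGen_exact hx)
  obtain ⟨r', u, u', -⟩ := hrel'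
  -- r'.obj = (b₁, b₂, γ); u = (u₁, u₂) : (b₁,b₂,γ) ⟶ (a,a,id); u' = (u'₁,u'₂) ⟶ (y₁,y₂,β)
  let V' : Over S := Over.mk r'.str
  have hV' : (FibCat.fp f f).p.obj r'.obj = V' := r'.lies
  have hb₁ : 𝒳.p.obj r'.obj.obj.fst = V' := hV'
  have hb₂ : 𝒳.p.obj r'.obj.obj.snd = V' := (fp_snd_obj_eq f f r'.obj).trans hV'
  -- base morphisms
  let ν : V' ⟶ (FibCat.fp f f).p.obj ((π.map (FibCat.diag f)).obj) :=
    eqToHom hV'.symm ≫ (FibCat.fp f f).p.map u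
  have hu : (FibCat.fp f f).p.IsHomLift ν u := by
    apply IsHomLift.of_fac' (FibCat.fp f f).p ν u hV' rfl
    simp [ν]
  have hu₁ : 𝒳.p.IsHomLift ν u.hom.fst := fp_fst_isHomLift f f u ν
  have hu₂ : 𝒳.p.IsHomLift ν u.hom.snd := fp_snd_isHomLift f f u ν
  have hsu₂ : 𝒳.p.IsStronglyCartesian ν u.hom.snd := cart_of_fibGrpd 𝒳.p h𝒳 hu₂
  obtain ⟨δ, hδ, hδfac⟩ := cart_lift_id 𝒳.p hsu₂ u.hom.fst hu₁
  -- f δ = γ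
  have hfu₂ : 𝒴.p.IsHomLift ν (f.map u.hom.snd) := (BasedFunctor.isHomLift_iff f _ _).mpr hu₂
  have hsfu₂ : 𝒴.p.IsStronglyCartesian ν (f.map u.hom.snd) := cart_of_fibGrpd 𝒴.p h𝒴 hfu₂
  have hγ : 𝒴.p.IsHomLift (𝟙 V') r'.obj.obj.iso.hom :=
    lift_id_congr 𝒴.p (fp_iso_isHomLift f f r'.obj) hb₁
  have hfδ : f.map δ = r'.obj.obj.iso.hom := by
    apply cart_ext 𝒴.p hsfu₂ (𝟙 V') ((BasedFunctor.isHomLift_iff f _ _).mpr hδ) hγ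
    rw [← f.map_comp, hδfac]
    have hw := u.hom.w
    exact (Category.comp_id _).symm.trans hw
  -- base morphism of u'
  let ν' : V' ⟶ V := eqToHom hV'.symm ≫ (FibCat.fp f f).p.map u' ≫ eqToHom hy₁
  have hu' : (FibCat.fp f f).p.IsHomLift ν' u' := by
    exact IsHomLift.of_fac' (FibCat.fp f f).p ν' u' hV' hy₁ (conj_eqToHom_aux _ hV' hy₁)
  have hu'₁ : 𝒳.p.IsHomLift ν' u'.hom.fst := fp_fst_isHomLift f f u' ν'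
  have hu'₂ : 𝒳.p.IsHomLift ν' u'.hom.snd := fp_snd_isHomLift f f u' ν'
  -- pull back s₁ along ν'
  obtain ⟨s', m, hm⟩ := h𝒵.exists_lift (x := ζ₁.obj.fst) (ν' ≫ eqToHom hs₁.symm)
  have hm' : 𝒵.p.IsHomLift ν' m := (IsHomLift.lift_comp_eqToHom_iff 𝒵.p ν' m hs₁.symm).mp hm
  have hs' : 𝒵.p.obj s' = V' := lift_domain_eq 𝒵.p hm'
  have hgm : 𝒴.p.IsHomLift ν' (g.map m) := (BasedFunctor.isHomLift_iff g _ _).mpr hm'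
  have hgmφ : 𝒴.p.IsHomLift ν' (g.map m ≫ ζ₁.obj.iso.hom) := lift_comp_id_right 𝒴.p hgm hφ₁
  have hfu'₁ : 𝒴.p.IsHomLift ν' (f.map u'.hom.fst) := (BasedFunctor.isHomLift_iff f _ _).mpr hu'₁
  have hsfu'₁ : 𝒴.p.IsStronglyCartesian ν' (f.map u'.hom.fst) := cart_of_fibGrpd 𝒴.p h𝒴 hfu'₁
  obtain ⟨φ', hφ', hφ'fac⟩ := cart_lift_id 𝒴.p hsfu'₁ (g.map m ≫ ζ₁.obj.iso.hom) hgmφ
  have iφ' : IsIso φ' := isIso_of_lift_id 𝒴.p h𝒴 hφ'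
  let ζ' : (FibCat.fp g f).obj :=
    ⟨⟨s', r'.obj.obj.fst, @asIso _ _ _ _ φ' iφ'⟩, lift_id_congr 𝒴.p hφ' hs'.symm⟩
  let μ₁ : ζ' ⟶ ζ₁ := fpHomMk g f (z := ζ') (z' := ζ₁) m u'.hom.fst hφ'fac.symm
  have hw' : f.map u'.hom.fst ≫ β.hom = r'.obj.obj.iso.hom ≫ f.map u'.hom.snd := u'.hom.w
  let μ₂ : ζ' ⟶ ζ₂ := fpHomMk g f (z := ζ') (z' := ζ₂) (m ≫ e₁.hom ≫ e₂.inv)
    (δ ≫ u'.hom.snd) (by
      show g.map (m ≫ e₁.hom ≫ e₂.inv) ≫ ζ₂.obj.iso.hom = φ' ≫ f.map (δ ≫ u'.hom.snd)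
      rw [f.map_comp, hfδ, ← hw', ← Category.assoc φ', hφ'fac]
      show _ = (g.map m ≫ ζ₁.obj.iso.hom) ≫ (ζ₁.obj.iso.inv ≫ g.map (e₁.hom ≫ e₂.inv) ≫ ζ₂.obj.iso.hom)
      rw [g.map_comp]
      simp)
  let ρ' : FPt (FibCat.fp g f) := { K := r'.K, str := r'.str, obj := ζ', lies := hs' }
  apply Points.sound
  exact ⟨ρ', μ₁ ≫ ψ₁, μ₂ ≫ ψ₂, trivial⟩

/-- if the base change of `f` along itself is injective on points, the diagonal is surjective on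
points -/
theorem surjective_diag_of_injective_fpFst (f : 𝒳 ⥤ᵇ 𝒴)
    (hinj : Function.Injective (Points.map (FibCat.fpFst f f))) :
    Function.Surjective (Points.map (FibCat.diag f)) := by
  intro w
  obtain ⟨ρ, rfl⟩ := Points.mk_surjective w
  let π : FPt 𝒳 := { K := ρ.K, str := ρ.str, obj := ρ.obj.obj.fst, lies := ρ.lies }
  refine ⟨Points.mk π, ?_⟩
  apply hinj
  rfl

end Groth.Agent.H64
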